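import Mathlib.LinearAlgebra.Dual.Lemmas
import Mathlib.LinearAlgebra.BilinearForm.Properties
import Mathlib.RingTheory.Trace.Basic
import Mathlib.RingTheory.Adjoin.Basic
import Mathlib.RingTheory.RootsOfUnity.PrimitiveRoots
import Mathlib.LinearAlgebra.FreeModule.PID
import Mathlib.FieldTheory.Finite.Basic
import Mathlib.FieldTheory.Perfect
import Mathlib.Algebra.CharP.Two
import Mathlib.Tactic

/-!
Skew-hermitian linear maps of a finite field of odd prime degree over a field with an involution,
moved by multiplications (helper71).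
-/

set_option autoImplicit false

namespace Cfsg.Agent.ExtFieldMax.Herm

variable {F E : Type*} [Field F] [Finite F] [Field E] [Algebra F E] [FiniteDimensional F E]
variable {σ : F ≃+* F} {bar : E ≃+* E}

/-- An automorphism of order two of a field with an involution on the base. -/
structure IsBar (σ : F ≃+* F) (bar : E ≃+* E) : Prop where
  ne_refl : ∃ a, σ a ≠ a
  invol : ∀ a, σ (σ a) = a
  bar_bar : ∀ x, bar (bar x) = x
  bar_algebraMap : ∀ a, bar (algebraMap F E a) = algebraMap F E (σ a)

omit [Finite F] [FiniteDimensional F E] in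
theorem IsBar.bar_smul (hb : IsBar σ bar) (c : F) (x : E) : bar (c • x) = σ c • bar x := by
  rw [Algebra.smul_def, map_mul, hb.bar_algebraMap, Algebra.smul_def]

omit [Finite F] [FiniteDimensional F E] in
theorem IsBar.trace_bar (hb : IsBar σ bar) (x : E) :
    Algebra.trace F E (bar x) = σ (Algebra.trace F E x) := by
  rw [Algebra.trace_eq_of_equiv_equiv σ bar (RingHom.ext fun a => (hb.bar_algebraMap a).symm) x,
    RingEquiv.apply_symm_apply]

/-- A basis decomposition along an element moved by the involution. -/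
theorem exists_fixed_pair {L : Type*} [Field L] (τ : L ≃+* L) (hτ : ∀ x, τ (τ x) = x) {t : L}
    (ht : τ t ≠ t) (x : L) : ∃ a b, τ a = a ∧ τ b = b ∧ x = a + t * b := by
  have hd : t - τ t ≠ 0 := sub_ne_zero.mpr ht.symm
  have hb : τ ((x - τ x) / (t - τ t)) = (x - τ x) / (t - τ t) := by
    rw [map_div₀, map_sub, map_sub, hτ, hτ, ← neg_sub x, ← neg_sub t, neg_div_neg_eq]
  refine ⟨x - t * ((x - τ x) / (t - τ t)), (x - τ x) / (t - τ t), ?_, hb, by ring⟩
  rw [map_sub, map_mul, hb]
  field_simp
  ring

/-- An additive subgroup with the squares of the elements fixed by an automorphism has all of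
them. -/
theorem mem_of_sq_mem {L : Type*} [Field L] [Finite L] (τ : L ≃+* L) (N : AddSubgroup L)
    (h : ∀ c, τ c = c → c * c ∈ N) {x : L} (hx : τ x = x) : x ∈ N := by
  by_cases h2 : (2 : L) = 0
  · haveI : CharP L 2 := CharTwo.of_one_ne_zero_of_two_eq_zero one_ne_zero h2
    have hinj : Function.Injective fun y : L => y * y := fun y z hyz => by
      have e : y * y = z * z := hyz
      have h1 : (y - z) * (y - z) = 0 := by
        linear_combination e + (z * z - y * z) * h2
      exact sub_eq_zero.mp (mul_self_eq_zero.mp h1)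
    obtain ⟨y, hy⟩ := Finite.injective_iff_surjective.mp hinj x
    have hy' : y * y = x := hy
    have : τ y = y := hinj (show τ y * τ y = y * y by rw [← map_mul, hy', hx])
    exact hy' ▸ h y this
  · have e : x = (x + 1) / 2 * ((x + 1) / 2) - (x - 1) / 2 * ((x - 1) / 2) := by
      field_simp; ring
    rw [e]
    refine sub_mem (h _ ?_) (h _ ?_) <;> simp [map_div₀, map_add, map_sub, hx, map_ofNat]

/-- The map `y ↦ tr(p y) q`. -/
noncomputable def rk1 (p q : E) : E →ₗ[F] E :=
  (Algebra.trace F E ∘ₗ LinearMap.mulLeft F p).smulRight q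

omit [Finite F] [FiniteDimensional F E] in
@[simp] theorem rk1_apply (p q y : E) :
    (rk1 p q : E →ₗ[F] E) y = Algebra.trace F E (p * y) • q := rfl

/-- The skew map of a pair. -/
noncomputable def pairMap (bar : E ≃+* E) (p q : E) : E →ₗ[F] E :=
  rk1 (bar p) q - rk1 (bar q) p

/-- Skew-hermitian maps. -/
def IsSkew (σ : F ≃+* F) (bar : E ≃+* E) (ψ : E →ₗ[F] E) : Prop :=
  ∀ x y, Algebra.trace F E (bar x * ψ y) = -σ (Algebra.trace F E (bar y * ψ x))

variable (hb : IsBar σ bar)
include hb

omit [Finite F] [FiniteDimensional F E] in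
theorem isSkew_mulLeft {k : E} (hk : bar k = -k) : IsSkew σ bar (LinearMap.mulLeft F k) := by
  intro x y
  rw [← hb.trace_bar, ← map_neg]
  congr 1
  simp only [LinearMap.mulLeft_apply, map_mul, hb.bar_bar, hk]
  ring

omit [Finite F] [FiniteDimensional F E] in
theorem isSkew_conj {ψ : E →ₗ[F] E} (h : IsSkew σ bar ψ) (e : E) :
    IsSkew σ bar (LinearMap.mulLeft F e ∘ₗ ψ ∘ₗ LinearMap.mulLeft F (bar e)) := by
  intro x y
  have := h (bar e * x) (bar e * y)
  simp only [LinearMap.comp_apply, LinearMap.mulLeft_apply, map_mul, hb.bar_bar] at this ⊢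
  rw [show bar x * (e * ψ (bar e * y)) = e * bar x * ψ (bar e * y) by ring,
    show bar y * (e * ψ (bar e * x)) = e * bar y * ψ (bar e * x) by ring]
  exact this

omit [Finite F] [FiniteDimensional F E] in
theorem isSkew_pairMap (p q : E) : IsSkew σ bar (pairMap bar p q : E →ₗ[F] E) := by
  intro x y
  simp only [pairMap, LinearMap.sub_apply, rk1_apply, mul_sub, mul_smul_comm, map_sub, map_smul,
    smul_eq_mul, map_mul, ← hb.trace_bar, hb.bar_bar]
  simp only [mul_comm (bar x) p, mul_comm (bar x) q, mul_comm y (bar p), mul_comm y (bar q)]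
  ring

omit [Finite F] [FiniteDimensional F E] in
theorem exists_skew_trace : ∃ t : F, t + σ t = 1 := by
  obtain ⟨a, ha⟩ := hb.ne_refl
  have hd : σ a - a ≠ 0 := sub_ne_zero.mpr ha
  refine ⟨σ a / (σ a - a), ?_⟩
  rw [map_div₀, map_sub, hb.invol]
  field_simp
  ring

/-- The span lemma. -/
theorem rk1_mem (hp : (Module.finrank F E).Prime) (hodd : Odd (Module.finrank F E))
    {M : AddSubgroup (E →ₗ[F] E)} (hMs : ∀ ψ ∈ M, IsSkew σ bar ψ)
    (hmult : ∀ k : E, bar k = -k → LinearMap.mulLeft F k ∈ M)
    (hconj : ∀ c : E, c ≠ 0 → bar c = c → ∀ ψ ∈ M,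
      LinearMap.mulLeft F c ∘ₗ ψ ∘ₗ LinearMap.mulLeft F c ∈ M)
    (hmove : ∃ e : E, e ≠ 0 ∧ (∀ s : F, e ≠ s • bar e) ∧ ∀ ψ ∈ M,
      LinearMap.mulLeft F e ∘ₗ ψ ∘ₗ LinearMap.mulLeft F (bar e) ∈ M)
    {κ b : E} (hκ : κ ≠ 0) (hbκ : ∀ s : F, b ≠ s • κ) (hpair : pairMap bar κ b ∈ M)
    {s : F} (hs : σ s = -s) (κ₀ : E) : s • rk1 (bar κ₀) κ₀ ∈ M := by
  classical
  haveI : Finite E := Module.finite_of_finite F
  set tr := Algebra.trace F E with htr
  obtain ⟨t, ht⟩ := hb.ne_refl
  have htd : t - σ t ≠ 0 := sub_ne_zero.mpr ht.symm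
  set T := algebraMap F E t with hT
  have hTb : bar T ≠ T := fun h => ht ((algebraMap F E).injective (by
    rw [← hb.bar_algebraMap]; exact h))
  -- closed under fixed scalars
  have hfix : ∀ c : F, σ c = c → ∀ ψ ∈ M, c • ψ ∈ M := by
    intro c hc ψ hψ
    refine mem_of_sq_mem σ { carrier := {c | c • ψ ∈ M}
                             add_mem' := fun {a b} ha hb => by
                               show (a + b) • ψ ∈ M
                               rw [add_smul]; exact add_mem ha hb
                             zero_mem' := by show (0 : F) • ψ ∈ M; rw [zero_smul]; exact M.zero_mem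
                             neg_mem' := fun {a} ha => by
                               show (-a : F) • ψ ∈ M
                               rw [neg_smul a ψ]; exact neg_mem (show a • ψ ∈ M from ha) }
      (fun d hd => ?_) hc
    show (d * d) • ψ ∈ M
    rcases eq_or_ne d 0 with rfl | hd0
    · rw [mul_zero, zero_smul]; exact M.zero_mem
    convert hconj (algebraMap F E d) ((map_ne_zero _).mpr hd0)
      (by rw [hb.bar_algebraMap, hd]) ψ hψ using 1
    refine LinearMap.ext fun x => ?_
    simp only [LinearMap.smul_apply, LinearMap.comp_apply, LinearMap.mulLeft_apply]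
    rw [← Algebra.smul_def, ← Algebra.smul_def, map_smul, smul_smul]
  -- the span
  let S : Submodule F (E →ₗ[F] E) :=
    { carrier := {ψ | ∃ m₁ ∈ M, ∃ m₂ ∈ M, ψ = m₁ + t • m₂}
      add_mem' := by
        rintro _ _ ⟨a, ha, b, hb', rfl⟩ ⟨c, hc, d, hd, rfl⟩
        exact ⟨a + c, add_mem ha hc, b + d, add_mem hb' hd, by rw [smul_add]; abel⟩
      zero_mem' := ⟨0, zero_mem M, 0, zero_mem M, by simp⟩
      smul_mem' := by
        rintro c _ ⟨a, ha, b, hb', rfl⟩
        obtain ⟨c₁, c₂, h1, h2, rfl⟩ := exists_fixed_pair σ hb.invol ht c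
        obtain ⟨d₁, d₂, h3, h4, h5⟩ := exists_fixed_pair σ hb.invol ht (t * t)
        refine ⟨c₁ • a + (c₂ * d₁) • b, add_mem (hfix _ h1 _ ha)
            (hfix _ (by rw [map_mul, h2, h3]) _ hb'),
          c₂ • a + c₁ • b + (c₂ * d₂) • b, add_mem (add_mem (hfix _ h2 _ ha) (hfix _ h1 _ hb'))
            (hfix _ (by rw [map_mul, h2, h4]) _ hb'), ?_⟩
        simp only [smul_add, smul_smul]
        rw [show (c₁ + t * c₂) * t = c₁ * t + c₂ * (t * t) by ring, h5]
        match_scalars <;> ring }
  have hMS : ∀ ψ ∈ M, ψ ∈ S := fun ψ hψ => ⟨ψ, hψ, 0, zero_mem M, by simp⟩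
  suffices hS : rk1 (bar κ₀) κ₀ ∈ S by
    obtain ⟨a, ha, b', hb', he⟩ := S.smul_mem s hS
    suffices b' = 0 by
      rw [this, smul_zero, add_zero] at he
      rwa [he]
    refine LinearMap.ext fun y => ?_
    rw [LinearMap.zero_apply]
    refine (traceForm_nondegenerate F E).1 _ fun z => ?_
    rw [Algebra.traceForm_apply, mul_comm]
    obtain ⟨x, rfl⟩ := bar.surjective z
    have e1 : s * (tr (bar κ₀ * y) * tr (bar x * κ₀)) =
        tr (bar x * a y) + t * tr (bar x * b' y) := by
      have := congrArg (fun ψ : E →ₗ[F] E => tr (bar x * ψ y)) he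
      simpa [mul_add, mul_smul_comm, mul_assoc] using this
    have e2 : s * (tr (bar κ₀ * x) * tr (bar y * κ₀)) =
        tr (bar y * a x) + t * tr (bar y * b' x) := by
      have := congrArg (fun ψ : E →ₗ[F] E => tr (bar y * ψ x)) he
      simpa [mul_add, mul_smul_comm, mul_assoc] using this
    have e3 := congrArg σ e2
    simp only [map_mul, map_add, hs, htr, ← hb.trace_bar, hb.bar_bar] at e3
    have ha' := hMs a ha x y
    have hb'' := hMs b' hb' x y
    simp only [← hb.trace_bar, map_mul, hb.bar_bar] at ha' hb''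
    rw [htr] at e1
    have : (t - σ t) * Algebra.trace F E (bar x * b' y) = 0 := by
      rw [mul_comm κ₀ (bar x), mul_comm y (bar κ₀)] at e3
      linear_combination -e1 - e3 - ha' - σ t * hb''
    exact (mul_eq_zero.mp this).resolve_left htd
  by_contra hout
  obtain ⟨χ, hχ, hχS⟩ := Submodule.exists_dual_map_eq_bot_of_notMem hout inferInstance
  have hχ0 : ∀ ψ ∈ M, χ ψ = 0 := fun ψ hψ =>
    (Submodule.eq_bot_iff _).mp hχS _ ⟨ψ, hMS ψ hψ, rfl⟩
  haveI := Subalgebra.isSimpleOrder_of_finrank_prime F E hp
  have hdec : ∀ x : E, ∃ a b, bar a = a ∧ bar b = b ∧ x = a + t • b := fun x => by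
    obtain ⟨a, b, h1, h2, h3⟩ := exists_fixed_pair bar hb.bar_bar hTb x
    exact ⟨a, b, h1, h2, by rw [h3, Algebra.smul_def]⟩
  -- stable under multiplications on both sides
  have hbi : ∀ ψ ∈ M, ∀ x y : E,
      χ (LinearMap.mulLeft F x ∘ₗ ψ ∘ₗ LinearMap.mulLeft F y) = 0 := by
    intro ψ hψ
    let Γ : E → E → F := fun x y => χ (LinearMap.mulLeft F x ∘ₗ ψ ∘ₗ LinearMap.mulLeft F y)
    have hΓ : ∀ x y, Γ x y = χ (LinearMap.mulLeft F x ∘ₗ ψ ∘ₗ LinearMap.mulLeft F y) :=
      fun x y => rfl
    have addl : ∀ x x' y, Γ (x + x') y = Γ x y + Γ x' y := fun x x' y => by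
      rw [hΓ, hΓ, hΓ, ← map_add]; congr 1; ext z; simp [add_mul]
    have addr : ∀ x y y', Γ x (y + y') = Γ x y + Γ x y' := fun x y y' => by
      rw [hΓ, hΓ, hΓ, ← map_add]; congr 1; ext z; simp [add_mul, mul_add]
    have smull : ∀ (c : F) x y, Γ (c • x) y = c * Γ x y := fun c x y => by
      rw [hΓ, hΓ, ← smul_eq_mul, ← map_smul]; congr 1; ext z; simp [smul_mul_assoc]
    have smulr : ∀ (c : F) x y, Γ x (c • y) = c * Γ x y := fun c x y => by
      rw [hΓ, hΓ, ← smul_eq_mul, ← map_smul]; congr 1; ext z
      simp [smul_mul_assoc, mul_smul_comm]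
    have hdiag : ∀ c, bar c = c → Γ c c = 0 := fun c hc => by
      rcases eq_or_ne c 0 with rfl | hc0
      · rw [← zero_smul F (0 : E), smull, zero_mul]
      · exact hχ0 _ (hconj c hc0 hc ψ hψ)
    obtain ⟨e, he0, hes, hem⟩ := hmove
    have hdiage : ∀ c, bar c = c → Γ (c * e) (c * bar e) = 0 := fun c hc => by
      rcases eq_or_ne c 0 with rfl | hc0
      · rw [zero_mul, zero_mul, ← zero_smul F (0 : E), smull, zero_mul]
      · refine hχ0 _ ?_
        convert hconj c hc0 hc _ (hem ψ hψ) using 1
        ext z; simp [mul_assoc, mul_left_comm]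
    have ext2 : ∀ (Δ : E → E → F), (∀ x x' y, Δ (x + x') y = Δ x y + Δ x' y) →
        (∀ x y y', Δ x (y + y') = Δ x y + Δ x y') → (∀ (c : F) x y, Δ (c • x) y = c * Δ x y) →
        (∀ (c : F) x y, Δ x (c • y) = c * Δ x y) → (∀ c, bar c = c → Δ c c = 0) →
        ∀ x y, Δ x y + Δ y x = 0 := by
      intro Δ al ar sl sr hd
      have hf : ∀ c d, bar c = c → bar d = d → Δ c d + Δ d c = 0 := fun c d hc hd' => by
        have := hd (c + d) (by rw [map_add, hc, hd'])
        rw [al, ar, ar, hd c hc, hd d hd', zero_add, add_zero] at this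
        exact this
      intro x y
      obtain ⟨a, a', h1, h2, rfl⟩ := hdec x
      obtain ⟨c, c', h3, h4, rfl⟩ := hdec y
      simp only [al, ar, sl, sr]
      linear_combination hf a c h1 h3 + t * hf a c' h1 h4 + t * hf a' c h2 h3 +
        t * t * hf a' c' h2 h4
    have hA := ext2 Γ addl addr smull smulr hdiag
    have hB := ext2 (fun x y => Γ (x * e) (y * bar e))
      (fun x x' y => by simp only [add_mul, addl]) (fun x y y' => by simp only [add_mul, addr])
      (fun c x y => by simp only [smul_mul_assoc, smull])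
      (fun c x y => by simp only [smul_mul_assoc, smulr]) hdiage
    have hbe : bar e ≠ 0 := (map_ne_zero _).mpr he0
    let C : Subalgebra F E :=
      { carrier := {c | ∀ x y, Γ (c * x) y = Γ x (c * y)}
        mul_mem' := fun {c d} hc hd x y => by
          rw [mul_assoc, hc, hd, mul_assoc, mul_left_comm]
        one_mem' := fun x y => by rw [one_mul, one_mul]
        add_mem' := fun {c d} hc hd x y => by rw [add_mul, add_mul, addl, addr, hc, hd]
        zero_mem' := fun x y => by
          rw [zero_mul, zero_mul, ← zero_smul F (0 : E), smull, smulr, zero_mul, zero_mul]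
        algebraMap_mem' := fun c x y => by
          rw [← Algebra.smul_def, ← Algebra.smul_def, smull, smulr] }
    have hvC : e / bar e ∈ C := fun x y => by
      have h1 := hB (x / bar e) (y / bar e)
      have h2 := hA (x / bar e * bar e) (y / bar e * e)
      rw [div_mul_cancel₀ _ hbe] at h1 h2
      rw [show e / bar e * x = x / bar e * e by ring, show e / bar e * y = y / bar e * e by ring]
      rw [div_mul_cancel₀ _ hbe] at h1
      linear_combination h1 - h2
    have hC : C = ⊤ := (IsSimpleOrder.eq_bot_or_eq_top C).resolve_left fun h => by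
      rw [h, Algebra.mem_bot] at hvC
      obtain ⟨c, hc⟩ := hvC
      exact hes c (by rw [Algebra.smul_def, hc, div_mul_cancel₀ _ hbe])
    have hprod : ∀ x y, Γ x y = Γ (x * y) 1 := fun x y => by
      have := (hC ▸ Algebra.mem_top : y ∈ C) x 1
      rw [mul_one] at this
      rw [mul_comm x y, this]
    have hlz : ∀ z, bar z = z → Γ z 1 = 0 := fun z hz =>
      mem_of_sq_mem bar { carrier := {z | Γ z 1 = 0}
                          add_mem' := fun {a b} ha hb' => by
                            show Γ (a + b) 1 = 0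
                            rw [addl, show Γ a 1 = 0 from ha, show Γ b 1 = 0 from hb', add_zero]
                          zero_mem' := by
                            show Γ 0 1 = 0
                            rw [← zero_smul F (0 : E), smull, zero_mul]
                          neg_mem' := fun {a} ha => by
                            show Γ (-a) 1 = 0
                            rw [← neg_one_smul F a, smull, show Γ a 1 = 0 from ha, mul_zero] }
        (fun c hc => show Γ (c * c) 1 = 0 by rw [← hprod]; exact hdiag c hc) hz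
    intro x y
    show Γ x y = 0
    rw [hprod]
    obtain ⟨a, a', h1, h2, h3⟩ := hdec (x * y)
    rw [h3, addl, smull, hlz a h1, hlz a' h2, mul_zero, add_zero]
  -- maps of rank one
  let β : E → E → F := fun p q => χ (rk1 p q)
  have hβ : ∀ p q, β p q = χ (rk1 p q) := fun p q => rfl
  have addl : ∀ x x' y, β (x + x') y = β x y + β x' y := fun x x' y => by
    rw [hβ, hβ, hβ, ← map_add]; congr 1; ext z; simp [add_mul, add_smul]
  have addr : ∀ x y y', β x (y + y') = β x y + β x y' := fun x y y' => by
    rw [hβ, hβ, hβ, ← map_add]; congr 1; ext z; simp [smul_add]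
  have smull : ∀ (c : F) x y, β (c • x) y = c * β x y := fun c x y => by
    rw [hβ, hβ, ← smul_eq_mul, ← map_smul]; congr 1; ext z
    simp [smul_mul_assoc, smul_smul]
  have smulr : ∀ (c : F) x y, β x (c • y) = c * β x y := fun c x y => by
    rw [hβ, hβ, ← smul_eq_mul, ← map_smul]; congr 1; ext z
    simp only [rk1_apply, LinearMap.smul_apply, smul_comm c]
  set a := b / κ with ha
  have hbar0 : bar κ ≠ 0 := (map_ne_zero _).mpr hκ
  let C : Subring E :=
    { carrier := {c | ∀ y x, β y (c * x) = β (bar c * y) x}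
      mul_mem' := fun {c d} hc hd y x => by
        rw [mul_assoc, hc, hd, map_mul, ← mul_assoc, mul_comm (bar d)]
      one_mem' := fun y x => by rw [map_one, one_mul, one_mul]
      add_mem' := fun {c d} hc hd y x => by rw [map_add, add_mul, add_mul, addl, addr, hc, hd]
      zero_mem' := fun y x => by
        rw [map_zero, zero_mul, zero_mul, ← zero_smul F (0 : E), smull, smulr, zero_mul, zero_mul]
      neg_mem' := fun {c} hc y x => by
        rw [map_neg, neg_mul, neg_mul, ← neg_one_smul F, smulr, ← neg_one_smul F (bar c * y),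
          smull, hc] }
  have haC : a ∈ C := fun y x => by
    have := hbi _ hpair (x / κ) (y / bar κ)
    have e : LinearMap.mulLeft F (x / κ) ∘ₗ pairMap bar κ b ∘ₗ LinearMap.mulLeft F (y / bar κ) =
        rk1 y (a * x) - rk1 (bar a * y) x := by
      ext z
      simp only [pairMap, LinearMap.comp_apply, LinearMap.mulLeft_apply, LinearMap.sub_apply,
        rk1_apply, mul_sub, mul_smul_comm]
      rw [show bar κ * (y / bar κ * z) = y * z by field_simp,
        show x / κ * b = a * x by rw [ha]; ring, show x / κ * κ = x by field_simp,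
        show bar b * (y / bar κ * z) = bar a * y * z by rw [ha, map_div₀]; ring]
    rw [e, map_sub, sub_eq_zero] at this
    exact this
  have ha0 : a ≠ 0 := div_ne_zero (fun h => hbκ 0 (by rw [h, zero_smul])) hκ
  have hfin : IsOfFinOrder a := by
    have := (Units.coeHom E).isOfFinOrder (isOfFinOrder_of_finite (Units.mk0 a ha0))
    simpa using this
  haveI : NeZero (orderOf a) := ⟨hfin.orderOf_pos.ne'⟩
  obtain ⟨i, -, hi⟩ := (IsPrimitiveRoot.orderOf a).eq_pow_of_pow_eq_one (ξ := bar a)
    (by rw [← map_pow, pow_orderOf_eq_one, map_one])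
  have habC : bar a ∈ C := hi ▸ pow_mem haC i
  have hnotF : ∀ c : F, a ≠ algebraMap F E c := fun c hc => hbκ c (by
    rw [Algebra.smul_def, ← hc, ha, div_mul_cancel₀ _ hκ])
  -- a fixed element outside the base
  obtain ⟨w, hwfix, hwC, hwF⟩ : ∃ w, bar w = w ∧ w ∈ C ∧ w ∉ (⊥ : Subalgebra F E) := by
    by_contra hc
    push Not at hc
    obtain ⟨n, hn⟩ := Algebra.mem_bot.mp (hc (a * bar a)
      (by rw [map_mul, hb.bar_bar, mul_comm]) (mul_mem haC habC))
    obtain ⟨m, hm⟩ := Algebra.mem_bot.mp (hc (a + bar a)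
      (by rw [map_add, hb.bar_bar, add_comm]) (add_mem haC habC))
    set P : Polynomial F := Polynomial.X ^ 2 - Polynomial.C m * Polynomial.X + Polynomial.C n with hP
    have hPa : Polynomial.aeval a P = 0 := by
      simp only [hP, map_add, map_sub, map_mul, map_pow, Polynomial.aeval_X, Polynomial.aeval_C,
        hm, hn]
      ring
    have hPdeg : P.natDegree = 2 := by rw [hP]; compute_degree!
    have hP0 : P ≠ 0 := fun h => by rw [h] at hPdeg; simp at hPdeg
    have h1 := Polynomial.natDegree_le_of_dvd (minpoly.dvd F a hPa) hP0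
    rw [hPdeg] at h1
    have h2 : (minpoly F a).natDegree ∣ Module.finrank F E :=
      minpoly.degree_dvd (IsIntegral.of_finite F a)
    have h3 := minpoly.natDegree_pos (IsIntegral.of_finite F a)
    rcases (Nat.dvd_prime hp).mp h2 with h4 | h4
    · obtain ⟨c, hc⟩ := (minpoly.natDegree_eq_one_iff (A := F) (x := a)).mp h4
      exact hnotF c hc.symm
    · obtain ⟨j, hj⟩ := hodd
      have := hp.two_le
      omega
  let C1 : Subalgebra F E :=
    { carrier := {c | ∀ y x, β y (c * x) = β (c * y) x}
      mul_mem' := fun {c d} hc hd y x => by rw [mul_assoc, hc, hd, mul_comm c d, mul_assoc]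
      one_mem' := fun y x => by rw [one_mul, one_mul]
      add_mem' := fun {c d} hc hd y x => by rw [add_mul, add_mul, addl, addr, hc, hd]
      zero_mem' := fun y x => by
        rw [zero_mul, zero_mul, ← zero_smul F (0 : E), smull, smulr, zero_mul, zero_mul]
      algebraMap_mem' := fun c y x => by
        rw [← Algebra.smul_def, ← Algebra.smul_def, smull, smulr] }
  have hC1 : C1 = ⊤ := (IsSimpleOrder.eq_bot_or_eq_top C1).resolve_left fun h => by
    have : w ∈ C1 := fun y x => by rw [hwC y x, hwfix]
    exact hwF (h ▸ this)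
  have hprod : ∀ y x, β y x = β (x * y) 1 := fun y x => by
    have := (hC1 ▸ Algebra.mem_top : x ∈ C1) y 1
    rwa [mul_one] at this
  -- the multiplications
  let B := Algebra.traceForm F E
  have hB : B.Nondegenerate := traceForm_nondegenerate F E
  let bs := Module.finBasis F E
  let ds := B.dualBasis hB bs
  have hsum : ∀ y, ∑ i, tr (bs i * y) • ds i = y := fun y => by
    conv_rhs => rw [← ds.sum_repr y]
    refine Finset.sum_congr rfl fun i _ => ?_
    rw [LinearMap.BilinForm.dualBasis_repr_apply, Algebra.traceForm_apply, mul_comm]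
  have hone : ∑ i, ds i * bs i = 1 := by
    refine sub_eq_zero.mp (hB.1 _ fun z => ?_)
    rw [Algebra.traceForm_apply, sub_mul, one_mul, map_sub, Finset.sum_mul, map_sum, sub_eq_zero,
      Algebra.trace_eq_matrix_trace bs z, Matrix.trace]
    refine Finset.sum_congr rfl fun i _ => ?_
    rw [Matrix.diag_apply, Algebra.leftMulMatrix_eq_repr_mul]
    conv_lhs => rw [mul_assoc, mul_comm (bs i) z, ← bs.sum_repr (z * bs i), Finset.mul_sum, map_sum]
    rw [Finset.sum_eq_single i]
    · rw [mul_smul_comm, map_smul, smul_eq_mul]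
      have := LinearMap.BilinForm.apply_dualBasis_left (B := B) hB bs i i
      rw [if_pos rfl, Algebra.traceForm_apply] at this
      rw [this, mul_one]
    · intro j _ hji
      rw [mul_smul_comm, map_smul]
      have := LinearMap.BilinForm.apply_dualBasis_left (B := B) hB bs i j
      rw [if_neg hji, Algebra.traceForm_apply] at this
      rw [this, smul_zero]
    · simp
  have hk0 : ∀ k, bar k = -k → β k 1 = 0 := fun k hk => by
    have e : LinearMap.mulLeft F k = ∑ i, rk1 (bs i) (k * ds i) := by
      refine LinearMap.ext fun y => ?_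
      rw [LinearMap.sum_apply, LinearMap.mulLeft_apply]
      conv_lhs => rw [← hsum y, Finset.mul_sum]
      exact Finset.sum_congr rfl fun i _ => by rw [rk1_apply, mul_smul_comm]
    have h := hχ0 _ (hmult k hk)
    rw [e, map_sum] at h
    have e2 : ∑ i, β (k * (ds i * bs i)) 1 = 0 := by
      rw [← h]
      exact Finset.sum_congr rfl fun i _ => by
        rw [← hβ, hprod (bs i) (k * ds i), mul_assoc]
    have e3 : β (∑ i, k * (ds i * bs i)) 1 = ∑ i, β (k * (ds i * bs i)) 1 := by
      exact map_sum ({ toFun := fun x => β x 1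
                       map_add' := fun x y => addl x y 1
                       map_smul' := fun c x => smull c x 1 } : E →ₗ[F] F) _ _
    rwa [e2, ← Finset.mul_sum, hone, mul_one] at e3
  set η := algebraMap F E (t - σ t) with hη
  have hη0 : η ≠ 0 := (map_ne_zero _).mpr htd
  have hηb : bar η = -η := by
    rw [hη, hb.bar_algebraMap, ← map_neg, map_sub, hb.invol, neg_sub]
  have hall : ∀ z, β z 1 = 0 := fun z => by
    obtain ⟨a1, a2, h1, h2, rfl⟩ := hdec z
    have hz : ∀ c, bar c = c → β c 1 = 0 := fun c hc => by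
      have := hk0 (η * c) (by rw [map_mul, hηb, hc, neg_mul])
      rw [hη, ← Algebra.smul_def, smull] at this
      exact (mul_eq_zero.mp this).resolve_left htd
    rw [addl, smull, hz a1 h1, hz a2 h2, mul_zero, add_zero]
  exact hχ (by rw [← hβ, hprod, hall])

end Cfsg.Agent.ExtFieldMax.Herm
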