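import Cfsg.Agent.ExtFieldMax.Overgroup
import Cfsg.Agent.ExtFieldMax.Herm.Span
import Cfsg.Agent.MaxSub.Herm

/-!
The hermitian form over an adjoint closed field subalgebra, and the isometries linear over the
field (helper71).
-/

set_option autoImplicit false

namespace Cfsg.Agent.ExtFieldMax.Herm

open Matrix Cfsg.Agent.MaxSub

variable {ι : Type} [Fintype ι] [DecidableEq ι] {F : Type*} [Field F]
variable {σ : F ≃+* F} {f : (ι → F) → (ι → F) → F}
variable {K : Subalgebra F (Matrix ι ι F)} {r : ℕ} {H : Subgroup (GL ι F)}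

/-- The trace of the field subalgebra. -/
noncomputable def tr (K : Subalgebra F (Matrix ι ι F)) : K →ₗ[F] F :=
  (LinearMap.trace F K).comp (Algebra.lmul F K).toLinearMap

/-- An element commuting with the field. -/
def Comm (K : Subalgebra F (Matrix ι ι F)) (g : GL ι F) : Prop :=
  ∀ (k : K) (x : ι → F), (g : Matrix ι ι F) *ᵥ ((k : Matrix ι ι F) *ᵥ x) =
    (k : Matrix ι ι F) *ᵥ ((g : Matrix ι ι F) *ᵥ x)

theorem Comm.mul {g h : GL ι F} (hg : Comm K g) (hh : Comm K h) : Comm K (g * h) := fun k x => by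
  rw [Units.val_mul, ← mulVec_mulVec, ← mulVec_mulVec, hh, hg]

theorem Comm.inv {g : GL ι F} (hg : Comm K g) : Comm K g⁻¹ := fun k x =>
  mulVec_injective g (by
    show (g : Matrix ι ι F) *ᵥ _ = (g : Matrix ι ι F) *ᵥ _
    rw [mulVec_inv_mulVec, hg, mulVec_inv_mulVec])

/-- A group of isometries containing the isometries of determinant one linear over the field. -/
structure Setting (σ : F ≃+* F) (f : (ι → F) → (ι → F) → F) (K : Subalgebra F (Matrix ι ι F))
    (r : ℕ) (H : Subgroup (GL ι F)) : Prop where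
  hK : Geo.IsFieldSubalgebra r K
  hr : r.Prime
  hro : Odd r
  hf : Geo.IsUnitaryForm σ f
  mem : ∀ g ∈ isom f, g ∈ Geo.specialLinear ι F → Comm K g → g ∈ H
  le_isom : H ≤ isom f

/-- The adjoint involution and the hermitian form over the field. -/
structure Data (f : (ι → F) → (ι → F) → F) (K : Subalgebra F (Matrix ι ι F)) where
  /-- The adjoint. -/
  bar : K ≃+* K
  adj : ∀ (k : K) x y, f ((k : Matrix ι ι F) *ᵥ x) y = f x ((bar k : Matrix ι ι F) *ᵥ y)
  /-- The form over the field, semilinear in the first slot. -/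
  phi : (ι → F) → ((ι → F) →ₗ[F] K)
  klin : ∀ v, IsKLin (phi v)
  spec : ∀ v (k : K) x, tr K (k * phi v x) = f ((k : Matrix ι ι F) *ᵥ x) v

theorem Setting.one_le (S : Setting σ f K r H) : 1 ≤ r := S.hr.one_lt.le

/-- Non-degeneracy of the trace. -/
theorem tr_sep [Finite F] (hK : Geo.IsFieldSubalgebra r K) (hr : r.Prime) {a : K}
    (h : ∀ k, tr K (k * a) = 0) : a = 0 := by
  letI : Field K := (isField_of hK hr.one_lt.le).toField
  haveI : Module.Finite F K := Module.finite_of_finrank_pos (by rw [hK.finrank_eq]; exact hr.pos)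
  haveI : Finite K := Module.finite_of_finite F
  exact (traceForm_nondegenerate F K).1 a fun k => by
    rw [Algebra.traceForm_apply, mul_comm]; exact h k

/-- Every functional on the field is a trace. -/
theorem exists_tr_rep [Finite F] (hK : Geo.IsFieldSubalgebra r K) (hr : r.Prime) (χ : K →ₗ[F] F) :
    ∃ a : K, ∀ k, tr K (k * a) = χ k := by
  haveI : Module.Finite F K := Module.finite_of_finrank_pos (by rw [hK.finrank_eq]; exact hr.pos)
  let T : K →ₗ[F] (K →ₗ[F] F) :=
    { toFun := fun x => tr K ∘ₗ LinearMap.mulRight F x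
      map_add' := fun x y => LinearMap.ext fun z => by simp [mul_add]
      map_smul' := fun c x => LinearMap.ext fun z => by simp }
  have hT : Function.Injective T := (injective_iff_map_eq_zero _).mpr fun a ha =>
    tr_sep hK hr fun k => LinearMap.congr_fun ha k
  obtain ⟨a, ha⟩ := (LinearMap.injective_iff_surjective_of_finrank_eq_finrank
    (by rw [Module.finrank_linearMap, Module.finrank_self, mul_one])).mp hT χ
  exact ⟨a, fun k => LinearMap.congr_fun ha k⟩

theorem exists_data [Finite F] (hf : Geo.IsUnitaryForm σ f) (hK : Geo.IsFieldSubalgebra r K)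
    (hr : r.Prime) (hac : Geo.IsAdjointClosedFor f K) : Nonempty (Data f K) := by
  have hadj : ∀ k : K, ∃ k' : K, ∀ x y,
      f ((k : Matrix ι ι F) *ᵥ x) y = f x ((k' : Matrix ι ι F) *ᵥ y) := fun k => by
    obtain ⟨k', hk', h⟩ := hac k k.2
    exact ⟨⟨k', hk'⟩, h⟩
  choose b hb using hadj
  have huniq : ∀ k l : K, (∀ x y, f x ((k : Matrix ι ι F) *ᵥ y) = f x ((l : Matrix ι ι F) *ᵥ y)) →
      k = l := fun k l h => Subtype.ext (Matrix.ext_of_mulVec_single fun i => by
    by_contra hne
    obtain ⟨x, hx⟩ := (hf.nondegenerate _ (sub_ne_zero.mpr hne)).1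
    exact hx (by rw [hsub_right hf, h, sub_self]))
  have hswap : ∀ (k : K) x y, f x ((k : Matrix ι ι F) *ᵥ y) = f ((b k : Matrix ι ι F) *ᵥ x) y :=
    fun k x y => by rw [hf.herm x, hb, ← hf.herm]
  let bar : K ≃+* K :=
    { toFun := b
      invFun := b
      left_inv := fun k => huniq _ _ fun x y => by rw [hswap k, hb]
      right_inv := fun k => huniq _ _ fun x y => by rw [hswap k, hb]
      map_mul' := fun k l => huniq _ _ fun x y => by
        rw [← hb, kmul_comm hK k l]
        simp only [Subalgebra.coe_mul, ← mulVec_mulVec]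
        rw [hb, hb]
      map_add' := fun k l => huniq _ _ fun x y => by
        rw [← hb]
        simp only [Subalgebra.coe_add, add_mulVec]
        rw [hf.add_left, hb, hb, hadd_right hf] }
  let Φ : ∀ (v x : ι → F), K →ₗ[F] F := fun v x => hl hf v ∘ₗ ev K x
  choose ph hph using fun v x => exists_tr_rep hK hr (Φ v x)
  have hext : ∀ a c : K, (∀ k, tr K (k * a) = tr K (k * c)) → a = c := fun a c h =>
    sub_eq_zero.mp (tr_sep hK hr fun k => by rw [mul_sub, map_sub, h, sub_self])
  refine ⟨⟨bar, hb, fun v =>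
    { toFun := ph v
      map_add' := fun x y => hext _ _ fun k => by
        rw [mul_add, map_add, hph, hph, hph]
        simp [Φ, mulVec_add, hf.add_left]
      map_smul' := fun c x => hext _ _ fun k => by
        rw [RingHom.id_apply, mul_smul_comm, map_smul, hph, hph]
        simp [Φ, mulVec_smul, hf.smul_left] }, fun v k x => hext _ _ fun l => ?_,
    fun v k x => hph v x k⟩⟩
  show tr K (l * ph v _) = tr K (l * (k * ph v x))
  rw [← mul_assoc, hph, hph]
  simp [Φ, mulVec_mulVec]

variable (S : Setting σ f K r H) (G : Data f K)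
include S

theorem bar_bar (k : K) : G.bar (G.bar k) = k := by
  refine Subtype.ext (Matrix.ext_of_mulVec_single fun i => ?_)
  by_contra hne
  obtain ⟨x, hx⟩ := (S.hf.nondegenerate _ (sub_ne_zero.mpr hne)).1
  exact hx (by rw [hsub_right S.hf, ← G.adj, S.hf.herm _ (Pi.single i 1), ← G.adj, ← S.hf.herm,
    sub_self])

theorem bar_algebraMap (c : F) : G.bar (algebraMap F K c) = algebraMap F K (σ c) := by
  refine Subtype.ext (Matrix.ext_of_mulVec_single fun i => ?_)
  by_contra hne
  obtain ⟨x, hx⟩ := (S.hf.nondegenerate _ (sub_ne_zero.mpr hne)).1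
  exact hx (by rw [hsub_right S.hf, ← G.adj, smul_one_mem, smul_one_mem, S.hf.smul_left,
    hsmul_right S.hf, S.hf.involutive, sub_self])

theorem exists_moved : ∃ a, σ a ≠ a := by
  by_contra h
  simp only [not_exists, not_not] at h
  exact S.hf.ne_refl (RingEquiv.ext h)

theorem isBar : letI : Field K := (isField_of S.hK S.one_le).toField
    IsBar σ G.bar :=
  letI : Field K := (isField_of S.hK S.one_le).toField
  ⟨exists_moved S, S.hf.involutive, bar_bar S G, bar_algebraMap S G⟩

theorem bar_smul (c : F) (k : K) : G.bar (c • k) = σ c • G.bar k := by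
  rw [Algebra.smul_def, map_mul, bar_algebraMap S G, Algebra.smul_def]

theorem tr_bar (k : K) : tr K (G.bar k) = σ (tr K k) := by
  letI : Field K := (isField_of S.hK S.one_le).toField
  exact (isBar S G).trace_bar k

theorem phi_one (v x : ι → F) : tr K (G.phi v x) = f x v := by
  have := G.spec v 1 x
  rwa [one_mul, show ((1 : K) : Matrix ι ι F) = 1 from rfl, one_mulVec] at this

theorem phi_ext [Finite F] {a b : K} (h : ∀ k, tr K (k * a) = tr K (k * b)) : a = b :=
  sub_eq_zero.mp (tr_sep S.hK S.hr fun k => by rw [mul_sub, map_sub, h, sub_self])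

theorem phi_add [Finite F] (v w x : ι → F) : G.phi (v + w) x = G.phi v x + G.phi w x :=
  phi_ext S fun k => by rw [mul_add, map_add, G.spec, G.spec, G.spec, hadd_right S.hf]

theorem phi_sub [Finite F] (v w x : ι → F) : G.phi (v - w) x = G.phi v x - G.phi w x := by
  have := phi_add S G (v - w) w x
  rw [sub_add_cancel] at this
  rw [this, add_sub_cancel_right]

theorem phi_ev_left [Finite F] (v : ι → F) (k : K) (x : ι → F) :
    G.phi (ev K v k) x = G.bar k * G.phi v x :=
  phi_ext S fun l => by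
    rw [G.spec, ← mul_assoc, G.spec, ev_apply, Subalgebra.coe_mul, S.hK.comm _ l.2 _ (G.bar k).2,
      ← mulVec_mulVec, G.adj (G.bar k), bar_bar S G]

theorem phi_smul_left [Finite F] (v : ι → F) (c : F) (x : ι → F) :
    G.phi (c • v) x = σ c • G.phi v x :=
  phi_ext S fun k => by
    rw [mul_smul_comm, map_smul, G.spec, G.spec, hsmul_right S.hf, smul_eq_mul]

theorem phi_swap [Finite F] (v x : ι → F) : G.phi x v = G.bar (G.phi v x) :=
  phi_ext S fun k => by
    conv_rhs => rw [show k = G.bar (G.bar k) from (bar_bar S G k).symm, ← map_mul, tr_bar S G,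
      G.spec, ← S.hf.herm, ← G.adj]
    rw [G.spec]

theorem phi_zero_swap [Finite F] {v x : ι → F} (h : G.phi v x = 0) : G.phi x v = 0 := by
  rw [phi_swap S G v x, h, map_zero]

theorem phi_zero_left [Finite F] (x : ι → F) : G.phi 0 x = 0 := by
  rw [phi_swap S G x 0, map_zero, map_zero]

theorem phi_eq_zero {v : ι → F} (h : ∀ x, G.phi v x = 0) : v = 0 := by
  by_contra hv
  obtain ⟨x, hx⟩ := (S.hf.nondegenerate v hv).1
  exact hx (by rw [← phi_one S G, h, map_zero])

theorem self_fixed [Finite F] (v : ι → F) : G.bar (G.phi v v) = G.phi v v :=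
  (phi_swap S G v v).symm

theorem exists_phi_one {v : ι → F} (hv : v ≠ 0) : ∃ y, G.phi v y = 1 := by
  letI : Field K := (isField_of S.hK S.one_le).toField
  obtain ⟨x, hx⟩ : ∃ x, G.phi v x ≠ 0 := by
    by_contra hc; push Not at hc; exact hv (phi_eq_zero S G hc)
  exact ⟨ev K x (G.phi v x)⁻¹, by rw [phi_ev S.hK (G.klin v), inv_mul_cancel₀ hx]⟩

theorem exists_phi_eq [Finite F] {ψ : (ι → F) →ₗ[F] K} (hψ : IsKLin ψ) : ∃ w, G.phi w = ψ := by
  let R : (ι → F) →ₗ[F] (ι → F) :=
    { toFun := fun u i => σ (rep f u i)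
      map_add' := fun u w => by funext i; simp [hrep_add S.hf]
      map_smul' := fun c u => by funext i; simp [hrep_smul S.hf, S.hf.involutive] }
  have hinj : Function.Injective R := (injective_iff_map_eq_zero _).mpr fun u hu => by
    by_contra hu0
    obtain ⟨x, hx⟩ := (S.hf.nondegenerate u hu0).1
    refine hx ?_
    have h0 : rep f u = 0 := funext fun i => σ.injective (by
      rw [Pi.zero_apply, map_zero]; exact congrFun hu i)
    rw [← hrep_dot S.hf, h0, zero_dotProduct]
  obtain ⟨w, hw⟩ := LinearMap.injective_iff_surjective.mp hinj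
    (fun i => σ (vec (tr K ∘ₗ ψ) i))
  have hw' : rep f w = vec (tr K ∘ₗ ψ) := funext fun i => σ.injective (congrFun hw i)
  refine ⟨w, LinearMap.ext fun x => phi_ext S fun k => ?_⟩
  rw [G.spec, ← hψ, ← hrep_dot S.hf, hw', vec_dot]
  rfl

theorem exists_fixed_notMem [Finite F] : ∃ c : K, G.bar c = c ∧ ∀ s : F, c ≠ algebraMap F K s := by
  letI : Field K := (isField_of S.hK S.one_le).toField
  obtain ⟨t, ht⟩ := exists_moved S
  by_contra hc
  push Not at hc
  have hT : G.bar (algebraMap F K t) ≠ algebraMap F K t := by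
    rw [bar_algebraMap S G]; exact fun h => ht ((algebraMap F K).injective h)
  have h1 : Module.finrank F K ≤ 1 := finrank_le_one 1 fun k => by
    obtain ⟨a, b, ha, hb, rfl⟩ := exists_fixed_pair G.bar (bar_bar S G) hT k
    obtain ⟨a', rfl⟩ := hc a ha
    obtain ⟨b', rfl⟩ := hc b hb
    exact ⟨a' + t * b', by rw [Algebra.smul_def, mul_one, map_add, map_mul]⟩
  rw [S.hK.finrank_eq] at h1
  have := S.hr.two_le
  omega

theorem exists_trace_bar {a : K} (ha : G.bar a = a) : ∃ c : K, c + G.bar c = a := by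
  letI : Field K := (isField_of S.hK S.one_le).toField
  obtain ⟨t, ht⟩ := exists_skew_trace (isBar S G)
  exact ⟨algebraMap F K t * a, by
    rw [map_mul, bar_algebraMap S G, ha, ← add_mul, ← map_add, ht, map_one, one_mul]⟩

theorem mem_of_phi [Finite F] {g : GL ι F} (hc : Comm K g)
    (hdet : (Matrix.GeneralLinearGroup.det g : F) = 1)
    (h : ∀ x y, G.phi ((g : Matrix ι ι F) *ᵥ y) ((g : Matrix ι ι F) *ᵥ x) = G.phi y x) : g ∈ H :=
  S.mem g (mem_isom.mpr fun x y => by rw [← phi_one S G, h, phi_one S G])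
    (Units.ext hdet) hc

theorem isom_form {g : GL ι F} (hg : g ∈ H) (x y : ι → F) :
    f ((g : Matrix ι ι F) *ᵥ x) ((g : Matrix ι ι F) *ᵥ y) = f x y :=
  S.le_isom hg x y

variable [Finite F]

theorem phi_comm {g : GL ι F} (hg : g ∈ H) (hc : Comm K g) (x y : ι → F) :
    G.phi ((g : Matrix ι ι F) *ᵥ y) ((g : Matrix ι ι F) *ᵥ x) = G.phi y x :=
  phi_ext S fun k => by rw [G.spec, G.spec, ← hc, isom_form S hg]

/-- Transvections over the field. -/
theorem inH_transvection {v : ι → F} (hv : G.phi v v = 0) {k : K} (hk : G.bar k = -k) :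
    ∃ g ∈ H, Comm K g ∧ ∀ x, (g : Matrix ι ι F) *ᵥ x = x + ev K v (k * G.phi v x) := by
  letI : Field K := (isField_of S.hK S.one_le).toField
  have hd : IsKLin (LinearMap.mulLeft F k ∘ₗ G.phi v) := isKLin_smul mul_comm (G.klin v) k
  have h1 : 1 + (LinearMap.mulLeft F k ∘ₗ G.phi v) v = 1 := by
    rw [LinearMap.comp_apply, hv, map_zero, add_zero]
  have hu : IsUnit (1 + (LinearMap.mulLeft F k ∘ₗ G.phi v) v) := by rw [h1]; exact isUnit_one
  have hx := el_mulVec S.hK _ hd v hu
  simp only [LinearMap.comp_apply, LinearMap.mulLeft_apply] at hx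
  have hcm : Comm K (el S.hK _ hd v hu) := el_comm S.hK _ hd v hu
  refine ⟨el S.hK _ hd v hu, mem_of_phi S G hcm
    (by rw [el_det, h1, map_one]) fun x y => ?_, hcm, hx⟩
  rw [hx, hx]
  simp only [phi_add S G, map_add, phi_ev_left S G, phi_ev S.hK (G.klin _), hv, map_mul, hk,
    phi_swap S G v y, mul_zero, add_zero, bar_bar S G]
  ring

/-- The unipotent elements of an isotropic vector and an orthogonal one. -/
theorem inH_siegel {v w : ι → F} (hv : G.phi v v = 0) (hvw : G.phi v w = 0) :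
    ∃ c : K, c + G.bar c = -G.phi w w ∧ ∃ g ∈ H, Comm K g ∧ ∀ x, (g : Matrix ι ι F) *ᵥ x =
      x + ev K w (G.phi v x) - ev K v (G.phi w x) + ev K v (c * G.phi v x) := by
  letI : Field K := (isField_of S.hK S.one_le).toField
  have hwv : G.phi w v = 0 := phi_zero_swap S G hvw
  obtain ⟨c, hc⟩ := exists_trace_bar S G (show G.bar (-G.phi w w) = -G.phi w w by
    rw [map_neg, self_fixed S G])
  refine ⟨c, hc, ?_⟩
  set ψ : (ι → F) →ₗ[F] K := LinearMap.mulLeft F c ∘ₗ G.phi v - G.phi w with hψ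
  have hψl : IsKLin ψ := fun k x => by
    simp only [hψ, LinearMap.sub_apply, LinearMap.comp_apply, LinearMap.mulLeft_apply]
    rw [G.klin v k x, G.klin w k x]
    ring
  have h1 : 1 + ψ v = 1 := by
    simp [hψ, hv, hwv]
  have h2 : 1 + G.phi v w = 1 := by rw [hvw, add_zero]
  set e1 := el S.hK ψ hψl v (by rw [h1]; exact isUnit_one) with he1
  set e2 := el S.hK (G.phi v) (G.klin v) w (by rw [h2]; exact isUnit_one) with he2
  have hx : ∀ x, ((e2 * e1 : GL ι F) : Matrix ι ι F) *ᵥ x =
      x + ev K w (G.phi v x) - ev K v (G.phi w x) + ev K v (c * G.phi v x) := fun x => by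
    rw [Units.val_mul, ← mulVec_mulVec, he1, he2, el_mulVec, el_mulVec, map_add (G.phi v),
      phi_ev S.hK (G.klin v), hv, mul_zero, add_zero]
    simp only [hψ, LinearMap.sub_apply, LinearMap.comp_apply, LinearMap.mulLeft_apply, map_sub]
    abel
  have hcm : Comm K (e2 * e1) := Comm.mul (el_comm _ _ _ _ _) (el_comm _ _ _ _ _)
  refine ⟨e2 * e1, mem_of_phi S G hcm ?_ fun x y => ?_, hcm, hx⟩
  · rw [map_mul, Units.val_mul, he1, he2, el_det, el_det, h1, h2, map_one, mul_one]
  · rw [hx, hx]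
    simp only [phi_add S G, phi_sub S G, map_add, map_sub, phi_ev_left S G,
      phi_ev S.hK (G.klin _), hv, hvw, hwv, map_mul, phi_swap S G v y, phi_swap S G w y,
      bar_bar S G]
    linear_combination (G.bar (G.phi v y) * G.phi v x) * hc

/-- An isotropic partner. -/
theorem exists_partner {v : ι → F} (hv : G.phi v v = 0) (hv0 : v ≠ 0) :
    ∃ v', G.phi v' v' = 0 ∧ G.phi v v' = 1 := by
  letI : Field K := (isField_of S.hK S.one_le).toField
  obtain ⟨y, hy⟩ := exists_phi_one S G hv0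
  obtain ⟨s, hs⟩ := exists_trace_bar S G (show G.bar (-G.phi y y) = -G.phi y y by
    rw [map_neg, self_fixed S G])
  refine ⟨y + ev K v s, ?_, ?_⟩
  · simp only [phi_add S G, map_add, phi_ev_left S G, phi_ev S.hK (G.klin _), hv, hy,
      phi_swap S G v y, map_one]
    linear_combination hs
  · rw [map_add, phi_ev S.hK (G.klin v), hy, hv, mul_zero, add_zero]

theorem phi_line {v : ι → F} (hv : G.phi v v = 0) (a b : K) :
    G.phi (ev K v a) (ev K v b) = 0 := by
  rw [phi_ev_left S G, phi_ev S.hK (G.klin v), hv, mul_zero, mul_zero]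

theorem exists_move_nonorth {z u : ι → F} (hz : G.phi z z = 0) (hu : G.phi u u = 0)
    (hzu : G.phi z u ≠ 0) :
    ∃ g ∈ H, Comm K g ∧ ∃ k : K, k ≠ 0 ∧ (g : Matrix ι ι F) *ᵥ z = ev K u k := by
  letI : Field K := (isField_of S.hK S.one_le).toField
  obtain ⟨t, ht⟩ := exists_moved S
  set η : K := algebraMap F K (t - σ t) with hη
  have hη0 : η ≠ 0 := (map_ne_zero _).mpr (sub_ne_zero.mpr ht.symm)
  have hηb : G.bar η = -η := by
    rw [hη, bar_algebraMap S G, ← map_neg, map_sub, S.hf.involutive, neg_sub]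
  set d := G.phi u z with hd
  have hd0 : d ≠ 0 := fun h => hzu (phi_zero_swap S G h)
  have hdn : G.phi z u = G.bar d := phi_swap S G u z
  have hN : η * G.bar d * d ≠ 0 := mul_ne_zero (mul_ne_zero hη0 ((map_ne_zero _).mpr hd0)) hd0
  obtain ⟨g₁, hg₁, hc₁, hx₁⟩ := inH_transvection S G hu hηb
  obtain ⟨g₂, hg₂, hc₂, hx₂⟩ := inH_transvection S G hz (k := -(η * G.bar d * d)⁻¹) (by
    rw [map_neg, map_inv₀, map_mul, map_mul, hηb, bar_bar S G]
    simp only [neg_mul, inv_neg, neg_neg]
    rw [mul_right_comm])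
  refine ⟨g₂ * g₁, mul_mem hg₂ hg₁, hc₂.mul hc₁, η * d, mul_ne_zero hη0 hd0, ?_⟩
  rw [Units.val_mul, ← mulVec_mulVec, hx₁, hx₂, map_add (G.phi z), hz, zero_add,
    phi_ev S.hK (G.klin z), hdn, ← hd, neg_mul,
    show (η * G.bar d * d)⁻¹ * (η * d * G.bar d) = 1 by rw [mul_right_comm η d, inv_mul_cancel₀ hN], map_neg, ev_one]
  abel

/-- Transitivity on isotropic lines. -/
theorem exists_move {z u : ι → F} (hz : G.phi z z = 0) (hz0 : z ≠ 0) (hu : G.phi u u = 0)
    (hu0 : u ≠ 0) :
    ∃ g ∈ H, Comm K g ∧ ∃ k : K, k ≠ 0 ∧ (g : Matrix ι ι F) *ᵥ z = ev K u k := by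
  letI : Field K := (isField_of S.hK S.one_le).toField
  by_cases h3 : G.phi z u ≠ 0
  · exact exists_move_nonorth S G hz hu h3
  push Not at h3
  obtain ⟨y, hy, hzy, huy⟩ : ∃ y, G.phi y y = 0 ∧ G.phi z y ≠ 0 ∧ G.phi y u ≠ 0 := by
    obtain ⟨z', hz', hzz'⟩ := exists_partner S G hz hz0
    obtain ⟨u', hu', huu'⟩ := exists_partner S G hu hu0
    by_cases h1 : G.phi z' u ≠ 0
    · exact ⟨z', hz', by rw [hzz']; exact one_ne_zero, h1⟩
    push Not at h1
    have hu'u : G.phi u' u = 1 := by rw [phi_swap S G u u', huu', map_one]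
    by_cases h2 : G.phi z u' ≠ 0
    · exact ⟨u', hu', h2, by rw [hu'u]; exact one_ne_zero⟩
    push Not at h2
    have hz'z : G.phi z' z = 1 := by rw [phi_swap S G z z', hzz', map_one]
    have hu'z : G.phi u' z = 0 := phi_zero_swap S G h2
    obtain ⟨s, hs⟩ := exists_trace_bar S G
      (a := -(G.phi z' u' + G.bar (G.phi z' u'))) (by
        rw [map_neg, map_add, bar_bar S G, add_comm])
    refine ⟨z' + u' + ev K z s, ?_, ?_, ?_⟩
    · simp only [phi_add S G, map_add, phi_ev_left S G, phi_ev S.hK (G.klin _), hz', hu', hz,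
        hzz', h2, hz'z, hu'z, phi_swap S G z' u']
      linear_combination hs
    · simp [phi_ev S.hK (G.klin z), hz, hzz', h2, -ev_apply]
    · simp [phi_add S G, phi_ev_left S G, h1, hu'u, h3, -ev_apply]
  obtain ⟨g, hg, hgc, k, hk, hgz⟩ := exists_move_nonorth S G hz hy hzy
  obtain ⟨g', hg', hgc', k', hk', hgy⟩ := exists_move_nonorth S G hy hu huy
  refine ⟨g' * g, mul_mem hg' hg, hgc'.mul hgc, k * k', mul_ne_zero hk hk', ?_⟩
  rw [Units.val_mul, ← mulVec_mulVec, hgz, ev_apply y, hgc', hgy, ← ev_mul]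

/-- The torus of a hyperbolic pair. -/
theorem exists_torus {v v' : ι → F} (hv : G.phi v v = 0) (hv' : G.phi v' v' = 0)
    (h : G.phi v v' = 1) {e : K} (he : e ≠ 0) :
    ∃ g : GL ι F, Comm K g ∧
      (∀ x y, G.phi ((g : Matrix ι ι F) *ᵥ y) ((g : Matrix ι ι F) *ᵥ x) = G.phi y x) ∧
      (g : Matrix ι ι F) *ᵥ v = ev K v e ∧
      (letI : Field K := (isField_of S.hK S.one_le).toField
       (Matrix.GeneralLinearGroup.det g : F) =
        Algebra.norm F e * (Algebra.norm F (G.bar e))⁻¹) := by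
  letI : Field K := (isField_of S.hK S.one_le).toField
  have h' : G.phi v' v = 1 := by rw [phi_swap S G v v', h, map_one]
  have hbe : G.bar e ≠ 0 := (map_ne_zero _).mpr he
  set α : (ι → F) →ₗ[F] K := LinearMap.mulLeft F (e - 1) ∘ₗ G.phi v'
  set β : (ι → F) →ₗ[F] K := LinearMap.mulLeft F ((G.bar e)⁻¹ - 1) ∘ₗ G.phi v
  have hα : IsKLin α := isKLin_smul mul_comm (G.klin v') _
  have hβ : IsKLin β := isKLin_smul mul_comm (G.klin v) _
  have h1 : 1 + α v = e := by simp [α, h']
  have h2 : 1 + β v' = (G.bar e)⁻¹ := by simp [β, h]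
  set g₁ := el S.hK α hα v (by rw [h1]; exact isUnit_iff_ne_zero.mpr he) with hg₁
  set g₂ := el S.hK β hβ v' (by rw [h2]; exact isUnit_iff_ne_zero.mpr (inv_ne_zero hbe)) with hg₂
  have hx : ∀ x, ((g₁ * g₂ : GL ι F) : Matrix ι ι F) *ᵥ x =
      x + ev K v' (((G.bar e)⁻¹ - 1) * G.phi v x) + ev K v ((e - 1) * G.phi v' x) := fun x => by
    rw [Units.val_mul, ← mulVec_mulVec, hg₁, hg₂, el_mulVec, el_mulVec, map_add α]
    simp [α, β, phi_ev S.hK (G.klin v'), hv', -ev_apply]
  refine ⟨g₁ * g₂, Comm.mul (el_comm _ _ _ _ _) (el_comm _ _ _ _ _), fun x y => ?_, ?_, ?_⟩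
  · rw [hx, hx]
    simp only [phi_add S G, map_add, phi_ev_left S G, phi_ev S.hK (G.klin _), hv, hv', h, h',
      map_mul, map_sub, map_one, map_inv₀, bar_bar S G, phi_swap S G v y, phi_swap S G v' y]
    field_simp
    ring
  · rw [hx, hv, h', mul_zero, map_zero, add_zero, mul_one, map_sub, ev_one, add_sub_cancel]
  · rw [map_mul, Units.val_mul, hg₁, hg₂, el_det, el_det, h1, h2, Algebra.norm_inv]

end Cfsg.Agent.ExtFieldMax.Herm
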