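import Cfsg.Agent.ExtFieldMax.Herm.Span
import Mathlib.FieldTheory.ChevalleyWarning
import Mathlib.LinearAlgebra.BilinearForm.Orthogonal
import Mathlib.RingTheory.MvPolynomial.Homogeneous

/-!
Singular members of a pencil of hermitian forms on a subspace of a finite field (helper71).
-/

set_option autoImplicit false

namespace Cfsg.Agent.ExtFieldMax.Herm

open scoped Matrix

variable {F : Type*} [Field F] [Finite F]

/-- A polynomial of small degree over a field with an involution has a non-trivial fixed zero, if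
its values at fixed points are fixed. -/
theorem exists_fixed_zero {σ : F ≃+* F} (hne : ∃ a, σ a ≠ a) (hinv : ∀ a, σ (σ a) = a) {N : ℕ}
    {P : MvPolynomial (Fin N) F} (hdeg : P.totalDegree < N)
    (hval : ∀ c : Fin N → F, (∀ i, σ (c i) = c i) →
      σ (MvPolynomial.eval c P) = MvPolynomial.eval c P)
    (h0 : MvPolynomial.eval (0 : Fin N → F) P = 0) :
    ∃ c : Fin N → F, c ≠ 0 ∧ (∀ i, σ (c i) = c i) ∧ MvPolynomial.eval c P = 0 := by
  classical
  let F₀ : Subfield F :=
    { carrier := {x | σ x = x}
      mul_mem' := fun {a b} ha hb => by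
        show σ (a * b) = a * b
        rw [map_mul, show σ a = a from ha, show σ b = b from hb]
      one_mem' := map_one σ
      add_mem' := fun {a b} ha hb => by
        show σ (a + b) = a + b
        rw [map_add, show σ a = a from ha, show σ b = b from hb]
      zero_mem' := map_zero σ
      neg_mem' := fun {a} ha => by
        show σ (-a) = -a
        rw [map_neg, show σ a = a from ha]
      inv_mem' := fun a ha => by
        show σ a⁻¹ = a⁻¹
        rw [map_inv₀, show σ a = a from ha] }
  obtain ⟨a, ha⟩ := hne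
  have hd : σ a - a ≠ 0 := sub_ne_zero.mpr ha
  set s := σ a / (σ a - a) with hs
  have hst : s + σ s = 1 := by
    rw [hs, map_div₀, map_sub, hinv]
    field_simp
    ring
  let π : F → F₀ := fun x => ⟨x * s + σ (x * s), by
    show σ (x * s + σ (x * s)) = x * s + σ (x * s)
    rw [map_add σ, hinv, add_comm]⟩
  let P₀ : MvPolynomial (Fin N) F₀ :=
    ∑ d ∈ P.support, MvPolynomial.monomial d (π (P.coeff d))
  have hdeg₀ : P₀.totalDegree < Fintype.card (Fin N) := by
    rw [Fintype.card_fin]
    refine lt_of_le_of_lt (MvPolynomial.totalDegree_finsetSum_le fun d hd' => ?_) hdeg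
    exact le_trans (MvPolynomial.totalDegree_monomial_le _ _) (MvPolynomial.le_totalDegree hd')
  have heval : ∀ c : Fin N → F₀, (MvPolynomial.eval c P₀ : F) =
      MvPolynomial.eval (fun i => (c i : F)) P := by
    intro c
    have hc : ∀ i, σ (c i : F) = c i := fun i => (c i).2
    have hm : ∀ d : Fin N →₀ ℕ, σ (∏ i, (c i : F) ^ d i) = ∏ i, (c i : F) ^ d i := fun d => by
      simp only [map_prod, map_pow, hc]
    have e : (MvPolynomial.eval c P₀ : F) = MvPolynomial.eval (fun i => (c i : F)) P * s +
        σ (MvPolynomial.eval (fun i => (c i : F)) P * s) := by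
      rw [MvPolynomial.eval_eq' (fun i => (c i : F)) P, Finset.sum_mul]
      simp only [P₀, map_sum]
      rw [AddSubmonoidClass.coe_finsetSum, ← Finset.sum_add_distrib]
      refine Finset.sum_congr rfl fun d _ => ?_
      rw [MvPolynomial.eval_monomial, Finsupp.prod_fintype _ _ fun i => pow_zero _]
      push_cast [π]
      simp only [map_mul, hm]
      ring
    rw [e, map_mul, hval _ hc, ← mul_add, hst, mul_one]
  letI : Fintype F₀ := Fintype.ofFinite F₀
  obtain ⟨p, hp⟩ := CharP.exists F₀
  haveI := hp
  have hpp : p.Prime := (CharP.char_is_prime_or_zero F₀ p).resolve_right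
    (fun h => CharP.char_ne_zero_of_finite F₀ p h)
  have hz0 : MvPolynomial.eval (0 : Fin N → F₀) P₀ = 0 := Subtype.ext (by
    rw [heval]; simpa [Pi.zero_def] using h0)
  have h2 : 1 < Fintype.card {x : Fin N → F₀ // MvPolynomial.eval x P₀ = 0} :=
    lt_of_lt_of_le hpp.one_lt (Nat.le_of_dvd (Fintype.card_pos_iff.mpr ⟨⟨0, hz0⟩⟩)
      (char_dvd_card_solutions p hdeg₀))
  obtain ⟨⟨c, hc⟩, hne'⟩ := Fintype.exists_ne_of_one_lt_card h2 ⟨0, hz0⟩
  refine ⟨fun i => (c i : F), fun h => hne' (Subtype.ext (funext fun i => Subtype.ext ?_)),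
    fun i => (c i).2, ?_⟩
  · exact congrFun h i
  · rw [← heval, hc]; rfl

variable {E : Type*} [Field E] [Algebra F E] [FiniteDimensional F E]
variable {σ : F ≃+* F} {bar : E ≃+* E}

/-- A member of the pencil is singular without being zero. -/
theorem exists_singular (hb : IsBar σ bar) (hp : (Module.finrank F E).Prime) (D : Submodule F E)
    (h2 : 2 ≤ Module.finrank F D) (hlt : Module.finrank F D < Module.finrank F E) :
    ∃ (y d : E), bar y = y ∧ d ∈ D ∧ d ≠ 0 ∧
      (∀ d' ∈ D, Algebra.trace F E (y * bar d * d') = 0) ∧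
      ∃ d₁ ∈ D, ∃ d₂ ∈ D, Algebra.trace F E (y * bar d₁ * d₂) ≠ 0 := by
  classical
  haveI : Finite E := Module.finite_of_finite F
  set b := Module.finrank F D with hbdef
  let e := Module.finBasis F D
  obtain ⟨t, ht⟩ := hb.ne_refl
  have hTb : bar (algebraMap F E t) ≠ algebraMap F E t := fun h => ht ((algebraMap F E).injective
    (by rw [← hb.bar_algebraMap]; exact h))
  let B := Algebra.traceForm F E
  let L : E →ₗ[F] (Fin b × Fin b → F) :=
    LinearMap.pi fun ij => B.flip (bar (e ij.1 : E) * (e ij.2 : E))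
  have hL : ∀ z i j, L z (i, j) = Algebra.trace F E (z * bar (e i : E) * (e j : E)) := fun z i j => by
    rw [mul_assoc]; rfl
  have hexp : ∀ {z d : E}, d ∈ D → (∀ j, Algebra.trace F E (z * (e j : E)) = 0) →
      Algebra.trace F E (z * d) = 0 := by
    intro z d hd h
    have he := congrArg Subtype.val (e.sum_repr ⟨d, hd⟩)
    simp only [Submodule.coe_sum, Submodule.coe_smul] at he
    rw [← he, Finset.mul_sum, map_sum]
    exact Finset.sum_eq_zero fun j _ => by rw [mul_smul_comm, map_smul, h j, smul_zero]
  -- the rank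
  have hrank : b < Module.finrank F (LinearMap.range L) := by
    by_contra hle
    push Not at hle
    have hker := LinearMap.finrank_range_add_finrank_ker L
    set Y := B.orthogonal (LinearMap.ker L) with hY
    have hYdim : Module.finrank F Y ≤ b := by
      have := LinearMap.BilinForm.finrank_orthogonal (B := B) (traceForm_nondegenerate F E)
        (LinearMap.ker L)
      rw [← hY] at this
      omega
    have hmem : ∀ d₁ ∈ D, ∀ d₂ ∈ D, bar d₁ * d₂ ∈ Y := by
      intro d₁ h1 d₂ h2' z hz
      show Algebra.trace F E (z * (bar d₁ * d₂)) = 0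
      rw [← mul_assoc]
      refine hexp h2' fun j => ?_
      obtain ⟨z', rfl⟩ := bar.surjective z
      rw [show bar z' * bar d₁ * (e j : E) = bar (z' * bar (e j : E) * d₁) by
        rw [map_mul, map_mul, hb.bar_bar]; ring, hb.trace_bar]
      rw [hexp h1 (z := z' * bar (e j : E)) fun i => ?_, map_zero]
      rw [show z' * bar (e j : E) * (e i : E) =
        bar (bar z' * bar (e i : E) * (e j : E)) by
          rw [map_mul, map_mul, hb.bar_bar, hb.bar_bar]; ring, hb.trace_bar,
        ← hL, LinearMap.mem_ker.mp hz, Pi.zero_apply, map_zero]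
    obtain ⟨d₀, hd₀, hd₀0⟩ := Submodule.exists_mem_ne_zero_of_ne_bot (p := D)
      (fun h => by rw [hbdef, h, finrank_bot] at h2; omega)
    have hbd0 : bar d₀ ≠ 0 := (map_ne_zero _).mpr hd₀0
    have heq : D.map (LinearMap.mulLeft F (bar d₀)) = Y := by
      refine Submodule.eq_of_le_of_finrank_le ?_ ?_
      · rintro _ ⟨d, hd, rfl⟩; exact hmem _ hd₀ _ hd
      · rw [(Submodule.equivMapOfInjective _ (mul_right_injective₀ hbd0) D).finrank_eq.symm]
        exact hYdim
    have hX : ∀ x x', x * d₀ ∈ D → x' * d₀ ∈ D → bar x * x' * d₀ ∈ D := by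
      intro x x' hx hx'
      obtain ⟨d, hd, hde⟩ := heq.symm ▸ hmem _ hx _ hx'
      rw [LinearMap.mulLeft_apply, map_mul,
        show bar x * bar d₀ * (x' * d₀) = bar d₀ * (bar x * x' * d₀) by ring] at hde
      exact mul_left_cancel₀ hbd0 hde ▸ hd
    have hone : (1 : E) * d₀ ∈ D := by rwa [one_mul]
    have hbarX : ∀ x, x * d₀ ∈ D → bar x * d₀ ∈ D := fun x hx => by
      simpa using hX x 1 hx hone
    let C : Subalgebra F E :=
      { carrier := {x | x * d₀ ∈ D}
        mul_mem' := fun {x x'} hx hx' => by
          show x * x' * d₀ ∈ D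
          simpa [hb.bar_bar] using hX (bar x) x' (hbarX x hx) hx'
        one_mem' := hone
        add_mem' := fun {x x'} hx hx' => by
          show (x + x') * d₀ ∈ D
          rw [add_mul]; exact add_mem hx hx'
        zero_mem' := by show (0 : E) * d₀ ∈ D; rw [zero_mul]; exact zero_mem D
        algebraMap_mem' := fun c => by
          show algebraMap F E c * d₀ ∈ D
          rw [← Algebra.smul_def]; exact D.smul_mem c hd₀ }
    haveI := Subalgebra.isSimpleOrder_of_finrank_prime F E hp
    rcases IsSimpleOrder.eq_bot_or_eq_top C with hC | hC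
    · have hsub : D ≤ Submodule.span F {d₀} := fun d hd => by
        have : d / d₀ ∈ C := show d / d₀ * d₀ ∈ D by rwa [div_mul_cancel₀ _ hd₀0]
        rw [hC, Algebra.mem_bot] at this
        obtain ⟨c, hc⟩ := this
        exact Submodule.mem_span_singleton.mpr ⟨c, by rw [Algebra.smul_def, hc,
          div_mul_cancel₀ _ hd₀0]⟩
      have := (Submodule.finrank_mono hsub).trans (finrank_span_singleton hd₀0).le
      omega
    · have htop : D = ⊤ := Submodule.eq_top_iff'.mpr fun d => by
        have : d / d₀ ∈ C := hC ▸ Algebra.mem_top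
        have h : d / d₀ * d₀ ∈ D := this
        rwa [div_mul_cancel₀ _ hd₀0] at h
      rw [hbdef, htop, finrank_top] at hlt
      omega
  -- fixed elements with independent images
  have hfam : ∀ k ≤ b + 1, ∃ y : Fin k → E, (∀ i, bar (y i) = y i) ∧
      LinearIndependent F (L ∘ y) := by
    intro k hk
    induction k with
    | zero => exact ⟨Fin.elim0, fun i => i.elim0, linearIndependent_empty_type⟩
    | succ k ih =>
      obtain ⟨y, hy, hli⟩ := ih (by omega)
      obtain ⟨z, hz, hzn⟩ : ∃ z, bar z = z ∧ L z ∉ Submodule.span F (Set.range (L ∘ y)) := by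
        by_contra hc
        push Not at hc
        have hle : LinearMap.range L ≤ Submodule.span F (Set.range (L ∘ y)) := by
          rintro _ ⟨x, rfl⟩
          obtain ⟨a, c, ha, hc', rfl⟩ := exists_fixed_pair bar hb.bar_bar hTb x
          rw [← Algebra.smul_def, map_add, map_smul]
          exact add_mem (hc a ha) (Submodule.smul_mem _ _ (hc c hc'))
        have h1 := Submodule.finrank_mono hle
        rw [finrank_span_eq_card hli, Fintype.card_fin] at h1
        omega
      refine ⟨Fin.cons z y, Fin.cases hz hy, ?_⟩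
      rw [Fin.comp_cons]
      exact linearIndependent_finCons.mpr ⟨hli, hzn⟩
  obtain ⟨y, hy, hli⟩ := hfam (b + 1) le_rfl
  let P : Matrix (Fin b) (Fin b) (MvPolynomial (Fin (b + 1)) F) :=
    Matrix.of fun i j => ∑ k, MvPolynomial.C (L (y k) (i, j)) * MvPolynomial.X k
  have hPdeg : P.det.totalDegree < b + 1 := by
    refine Nat.lt_succ_of_le ?_
    rw [Matrix.det_apply]
    refine MvPolynomial.totalDegree_finsetSum_le fun π _ => ?_
    refine (MvPolynomial.totalDegree_smul_le _ _).trans ?_
    refine (MvPolynomial.totalDegree_finset_prod _ _).trans ?_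
    refine (Finset.sum_le_sum fun i _ => ?_).trans (by simp : ∑ _i : Fin b, 1 ≤ b)
    simp only [P, Matrix.of_apply]
    refine MvPolynomial.totalDegree_finsetSum_le fun k _ => ?_
    refine (MvPolynomial.totalDegree_mul _ _).trans ?_
    rw [MvPolynomial.totalDegree_C, MvPolynomial.totalDegree_X]
  have heval : ∀ c : Fin (b + 1) → F, MvPolynomial.eval c P.det =
      (Matrix.of fun i j => L (∑ k, c k • y k) (i, j)).det := by
    intro c
    rw [RingHom.map_det]
    congr 1
    ext i j
    simp [P, mul_comm]
  have hfix : ∀ c : Fin (b + 1) → F, (∀ i, σ (c i) = c i) →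
      bar (∑ k, c k • y k) = ∑ k, c k • y k := by
    intro c hc
    rw [map_sum]
    exact Finset.sum_congr rfl fun k _ => by rw [hb.bar_smul, hc, hy]
  have hherm : ∀ z, bar z = z → ∀ i j, σ (L z (i, j)) = L z (j, i) := by
    intro z hz i j
    rw [hL, hL, ← hb.trace_bar, map_mul bar, map_mul bar, hz, hb.bar_bar]
    congr 1; ring
  obtain ⟨c, hc0, hcf, hc⟩ := exists_fixed_zero hb.ne_refl hb.invol hPdeg (fun c hc => by
      rw [heval, RingEquiv.map_det, ← Matrix.det_transpose]
      congr 1
      ext i j
      exact hherm _ (hfix c hc) j i)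
    (by
      rw [heval]
      have hb0 : Nonempty (Fin b) := ⟨⟨0, by omega⟩⟩
      convert Matrix.det_zero (n := Fin b) (R := F) using 2
      ext i j
      simp)
  rw [heval] at hc
  set z := ∑ k, c k • y k with hz
  obtain ⟨x, hx0, hx⟩ := Matrix.exists_mulVec_eq_zero_iff.mpr hc
  refine ⟨z, ∑ j, x j • (e j : E), hfix c hcf,
    sum_mem fun j _ => D.smul_mem _ (e j).2, fun h => hx0 (funext fun j => ?_), fun d' hd' => ?_,
    ?_⟩
  · refine Fintype.linearIndependent_iff.mp e.linearIndependent x ?_ j
    exact Subtype.ext (by simpa using h)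
  · refine hexp hd' fun i => ?_
    rw [show z * bar (∑ j, x j • (e j : E)) * (e i : E) =
      bar (z * bar (e i : E) * ∑ j, x j • (e j : E)) by
        rw [map_mul, map_mul, hfix c hcf, hb.bar_bar]; ring, hb.trace_bar, Finset.mul_sum, map_sum]
    have := congrFun hx i
    simp only [Matrix.mulVec, dotProduct, Matrix.of_apply, Pi.zero_apply] at this
    rw [show ∑ j, Algebra.trace F E (z * bar (e i : E) * x j • (e j : E)) =
      ∑ j, L z (i, j) * x j from Finset.sum_congr rfl fun j _ => by
        rw [mul_smul_comm, map_smul, smul_eq_mul, hL, mul_comm], this, map_zero]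
  · by_contra hc'
    push Not at hc'
    refine hc0 (funext fun k => Fintype.linearIndependent_iff.mp hli c ?_ k)
    rw [show ∑ k, c k • (L ∘ y) k = L z by rw [hz, map_sum]; simp]
    funext ⟨i, j⟩
    rw [hL]
    exact hc' _ (e i).2 _ (e j).2

end Cfsg.Agent.ExtFieldMax.Herm
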