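import Cfsg.Agent.ExtFieldMax.Herm.Form
import Cfsg.Agent.ExtFieldMax.Herm.Pencil
import Cfsg.Agent.ExtFieldMax.Sp.Intersect

/-!
An element stabilising an isotropic line over the field without being linear on it (helper71).
-/

set_option autoImplicit false

namespace Cfsg.Agent.ExtFieldMax.Herm

open Matrix Cfsg.Agent.MaxSub

variable {ι : Type} [Fintype ι] [DecidableEq ι] {F : Type*} [Field F] [Finite F]
variable {σ : F ≃+* F} {f : (ι → F) → (ι → F) → F}
variable {K : Subalgebra F (Matrix ι ι F)} {r : ℕ} {H : Subgroup (GL ι F)}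

/-- A norm one element of the field moved by the adjoint. -/
def IsSpinner (G : Data f K) (u : K) : Prop :=
  G.bar u * u = 1 ∧ LinearMap.det (LinearMap.mulLeft F u) = 1 ∧ ∀ s : F, u ≠ s • G.bar u

variable (S : Setting σ f K r H) (G : Data f K)
include S

theorem finrank_ker_ge (ψ : (ι → F) →ₗ[F] K) :
    Fintype.card ι ≤ Module.finrank F (LinearMap.ker ψ) + r := by
  haveI : Module.Finite F K :=
    Module.finite_of_finrank_pos (by rw [S.hK.finrank_eq]; exact S.hr.pos)
  have h2 := LinearMap.finrank_range_add_finrank_ker ψ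
  have h3 := (LinearMap.range ψ).finrank_le
  rw [S.hK.finrank_eq] at h3
  rw [Module.finrank_fintype_fun_eq_card] at h2
  omega

theorem finrank_inf_ker_ge (P : Submodule F (ι → F)) (ψ : (ι → F) →ₗ[F] K) :
    Module.finrank F P ≤ Module.finrank F ↥(P ⊓ LinearMap.ker ψ) + r := by
  have h1 := finrank_ker_ge S ψ
  have h2 := Submodule.finrank_sup_add_finrank_inf_eq P (LinearMap.ker ψ)
  have h3 := (P ⊔ LinearMap.ker ψ).finrank_le
  rw [Module.finrank_fintype_fun_eq_card] at h3
  omega

omit [Finite F] in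
theorem stable_ker (v : ι → F) : Stable K (LinearMap.ker (G.phi v)) := fun k x hx => by
  rw [LinearMap.mem_ker] at hx ⊢
  rw [G.klin, hx, mul_zero]

/-- Isotropic vectors in large stable subspaces. -/
theorem exists_iso {P : Submodule F (ι → F)} (hP : Stable K P)
    (hdim : r < Module.finrank F P) : ∃ w ∈ P, w ≠ 0 ∧ G.phi w w = 0 := by
  letI : Field K := (isField_of S.hK S.one_le).toField
  haveI : Module.Finite F K :=
    Module.finite_of_finrank_pos (by rw [S.hK.finrank_eq]; exact S.hr.pos)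
  haveI : Finite K := Module.finite_of_finite F
  obtain ⟨a, haP, ha0⟩ := Submodule.exists_mem_ne_zero_of_ne_bot (p := P) (fun h => by
    rw [h, finrank_bot] at hdim; omega)
  by_cases ha : G.phi a a = 0
  · exact ⟨a, haP, ha0, ha⟩
  obtain ⟨b, ⟨hbP, hab'⟩, hb0⟩ := Submodule.exists_mem_ne_zero_of_ne_bot
    (p := P ⊓ LinearMap.ker (G.phi a)) (fun h => by
      have := finrank_inf_ker_ge S P (G.phi a)
      rw [h, finrank_bot] at this
      omega)
  have hab : G.phi a b = 0 := hab'
  by_cases hb : G.phi b b = 0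
  · exact ⟨b, hbP, hb0, hb⟩
  have hne : (G.bar : K →+* K) ≠ RingHom.id K := fun h => by
    obtain ⟨t, ht⟩ := exists_moved S
    have e := RingHom.congr_fun h (algebraMap F K t)
    exact ht ((algebraMap F K).injective (by rw [← bar_algebraMap S G]; exact e))
  obtain ⟨s, hs⟩ := Forms.exists_norm_eq hne (bar_bar S G) (c := -G.phi a a / G.phi b b) (by
    show G.bar _ = _
    rw [map_div₀, map_neg, self_fixed S G, self_fixed S G])
  have hs' : G.bar s * s * G.phi b b = -G.phi a a := by
    rw [show G.bar s * s = -G.phi a a / G.phi b b from hs, div_mul_cancel₀ _ hb]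
  refine ⟨a + ev K b s, add_mem haP (hP s b hbP), fun h => ha ?_, ?_⟩
  · have := congrArg (G.phi a) h
    rwa [map_add, phi_ev S.hK (G.klin a), hab, mul_zero, add_zero, map_zero] at this
  · simp only [phi_add S G, map_add, phi_ev_left S G, phi_ev S.hK (G.klin _), hab,
      phi_zero_swap S G hab]
    linear_combination hs'

variable (hn : (Fintype.card ι = 2 * r ∧ ∃ u, IsSpinner G u) ∨ 4 * r ≤ Fintype.card ι)
include hn

/-- Some image of an isotropic line meets it without being equal to it. -/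
theorem exists_meeting {v : ι → F} (hv : G.phi v v = 0) (hv0 : v ≠ 0)
    (hn' : ∃ g ∈ H, ∃ (x : ι → F), G.phi x x = 0 ∧ ∃ k : K,
      (g : Matrix ι ι F) *ᵥ ((k : Matrix ι ι F) *ᵥ x) ∉ kline K ((g : Matrix ι ι F) *ᵥ x)) :
    ∃ h ∈ H, lineImg K h v ≠ kline K v ∧
      0 < Module.finrank F ↥(kline K v ⊓ lineImg K h v) := by
  letI : Field K := (isField_of S.hK S.one_le).toField
  -- moving the base point to `v`
  have himg : ∀ (c : GL ι F) (a b : ι → F) (k : K), Comm K c → k ≠ 0 →
      (c : Matrix ι ι F) *ᵥ a = ev K b k → lineImg K c a = kline K b := by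
    intro c a b k hcc hk hca
    refine le_antisymm ?_ ?_
    · intro x hx
      obtain ⟨μ, rfl⟩ := mem_lineImg.mp hx
      rw [ev_apply, hcc, hca]
      exact kline_stable b μ ⟨k, rfl⟩
    · rintro _ ⟨μ, rfl⟩
      refine mem_lineImg.mpr ⟨μ * k⁻¹, ?_⟩
      rw [ev_apply a, hcc, hca, ← ev_mul, mul_assoc, inv_mul_cancel₀ hk, mul_one]
  have transfer : ∀ h' ∈ H, ∀ u, G.phi u u = 0 → u ≠ 0 → lineImg K h' u ≠ kline K u →
      (∃ y ∈ kline K u, y ≠ 0 ∧ y ∈ lineImg K h' u) →
      ∃ h ∈ H, lineImg K h v ≠ kline K v ∧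
        0 < Module.finrank F ↥(kline K v ⊓ lineImg K h v) := by
    rintro h' hh' u hu hu0 hne ⟨y, hy, hy0, hy'⟩
    obtain ⟨c, hc, hcc, k, hk, hcv⟩ := exists_move S G hv hv0 hu hu0
    have hline := himg c v u k hcc hk hcv
    have hconv : ∀ x, x ∈ lineImg K (c⁻¹ * h' * c) v ↔
        (c : Matrix ι ι F) *ᵥ x ∈ lineImg K h' u := by
      intro x
      constructor
      · intro hx
        obtain ⟨μ, rfl⟩ := mem_lineImg.mp hx
        obtain ⟨ν, hν⟩ : (c : Matrix ι ι F) *ᵥ ev K v μ ∈ kline K u :=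
          hline ▸ mem_lineImg.mpr ⟨μ, rfl⟩
        exact mem_lineImg.mpr ⟨ν, by rw [Units.val_mul, Units.val_mul, ← mulVec_mulVec,
          ← mulVec_mulVec, mulVec_inv_mulVec, hν]⟩
      · intro hx
        obtain ⟨ν, hν⟩ := mem_lineImg.mp hx
        obtain ⟨μ, hμ⟩ := mem_lineImg.mp (hline.symm ▸ (⟨ν, rfl⟩ : ev K u ν ∈ kline K u) :
          ev K u ν ∈ lineImg K c v)
        exact mem_lineImg.mpr ⟨μ, by rw [Units.val_mul, Units.val_mul, ← mulVec_mulVec,
          ← mulVec_mulVec, hμ, hν, inv_mulVec_mulVec]⟩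
    have hv' : ∀ x, (c : Matrix ι ι F) *ᵥ x ∈ kline K u ↔ x ∈ kline K v := by
      intro x
      rw [← hline]
      constructor
      · intro hx
        obtain ⟨μ, hμ⟩ := mem_lineImg.mp hx
        exact ⟨μ, mulVec_injective c hμ⟩
      · rintro ⟨μ, rfl⟩
        exact mem_lineImg.mpr ⟨μ, rfl⟩
    refine ⟨c⁻¹ * h' * c, mul_mem (mul_mem (inv_mem hc) hh') hc, fun he => hne ?_, ?_⟩
    · refine SetLike.ext fun x => ?_
      obtain ⟨x, rfl⟩ : ∃ x', (c : Matrix ι ι F) *ᵥ x' = x := ⟨_, mulVec_inv_mulVec c x⟩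
      rw [← hconv, hv', he]
    · refine Module.finrank_pos_iff_exists_ne_zero.mpr
        ⟨⟨((c⁻¹ : GL ι F) : Matrix ι ι F) *ᵥ y, ?_, ?_⟩, fun h0 =>
          mulVec_ne_zero c⁻¹ hy0 (congrArg Subtype.val h0)⟩
      · rw [SetLike.mem_coe, ← hv', mulVec_inv_mulVec]; exact hy
      · rw [SetLike.mem_coe, hconv, mulVec_inv_mulVec]; exact hy'
  obtain ⟨g, hg, u, hu, k0, hgu⟩ := hn'
  have hu0 : u ≠ 0 := fun h => hgu (by simp [h])
  set T := lineImg K g u with hT
  set y := (g : Matrix ι ι F) *ᵥ u with hy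
  have hyT : y ∈ T := mem_lineImg.mpr ⟨1, by rw [ev_one]⟩
  have hy0 : y ≠ 0 := mulVec_ne_zero g hu0
  have hTne : T ≠ kline K y := fun he => hgu (he ▸ mem_lineImg.mpr ⟨k0, rfl⟩)
  by_cases hyiso : G.phi y y = 0
  · -- already an isotropic point
    obtain ⟨c, hc, hcc, k, hk, hcy⟩ := exists_move S G hyiso hy0 hu hu0
    have hgc : lineImg K (g * c) y = T := by
      refine SetLike.ext fun x => ?_
      constructor
      · intro hx
        obtain ⟨μ, rfl⟩ := mem_lineImg.mp hx
        exact mem_lineImg.mpr ⟨μ * k,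
          by rw [Units.val_mul, ← mulVec_mulVec, ev_apply y, hcc, hcy, ← ev_mul]⟩
      · intro hx
        obtain ⟨μ, rfl⟩ := mem_lineImg.mp hx
        refine mem_lineImg.mpr ⟨μ * k⁻¹, ?_⟩
        rw [Units.val_mul, ← mulVec_mulVec, ev_apply y, hcc, hcy, ← ev_mul, mul_assoc,
          inv_mul_cancel₀ hk, mul_one]
    exact transfer (g * c) (mul_mem hg hc) y hyiso hy0 (hgc.symm ▸ hTne)
      ⟨y, self_mem_kline y, hy0, hgc.symm ▸ hyT⟩
  -- some element fixing `y` moves `T`
  obtain ⟨e, he, hey, z, hz, hez⟩ : ∃ e ∈ H, (e : Matrix ι ι F) *ᵥ y = y ∧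
      ∃ z ∈ T, (e : Matrix ι ι F) *ᵥ z ∉ T := by
    by_contra hc
    push Not at hc
    have hrkT : Module.finrank F T = r := finrank_lineImg S.hK g hu0
    obtain ⟨x, hxT, hxy⟩ : ∃ x ∈ T, x ∉ kline K y := by
      by_contra hc'
      push Not at hc'
      exact hTne (Submodule.eq_of_le_of_finrank_eq hc'
        (by rw [hrkT, finrank_kline S.hK hy0]))
    obtain ⟨x', hx'⟩ : ∃ x', x' = x - ev K y ((G.phi y y)⁻¹ * G.phi y x) := ⟨_, rfl⟩
    have hyx' : G.phi y x' = 0 := by
      rw [hx', map_sub, phi_ev S.hK (G.klin y), mul_right_comm, inv_mul_cancel₀ hyiso, one_mul,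
        sub_self]
    have hx'y : G.phi x' y = 0 := phi_zero_swap S G hyx'
    have hx'0 : x' ≠ 0 := fun h => hxy ⟨_, (sub_eq_zero.mp (hx'.symm.trans h)).symm⟩
    rcases hn with ⟨hcard, lam, hlam1, hlamd, hlamF⟩ | hcard
    · -- the plane
      set n' := G.phi x' x' with hn'def
      have hn' : n' ≠ 0 := fun h0 => by
        set ψ : Submodule F (ι → F) := kline K y ⊔ kline K x' with hψ
        have htop : ψ = ⊤ := by
          refine Submodule.eq_top_of_finrank_eq ?_
          have h1 := Submodule.finrank_sup_add_finrank_inf_eq (kline K y) (kline K x')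
          have h2 : kline K y ⊓ kline K x' = ⊥ := by
            rw [Submodule.eq_bot_iff]
            rintro _ ⟨⟨a, rfl⟩, b, hb⟩
            have := congrArg (G.phi y) hb
            rw [phi_ev S.hK (G.klin y), phi_ev S.hK (G.klin y), hyx', mul_zero] at this
            rw [(mul_eq_zero.mp this.symm).resolve_right hyiso, map_zero]
          rw [h2, finrank_bot, finrank_kline S.hK hy0, finrank_kline S.hK hx'0, ← hψ] at h1
          rw [Module.finrank_fintype_fun_eq_card]
          omega
        refine hx'0 (phi_eq_zero S G fun t => ?_)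
        obtain ⟨_, ⟨a, rfl⟩, _, ⟨b, rfl⟩, rfl⟩ :=
          Submodule.mem_sup.mp (htop ▸ Submodule.mem_top : t ∈ ψ)
        rw [map_add, phi_ev S.hK (G.klin x'), phi_ev S.hK (G.klin x'), hx'y,
          show G.phi x' x' = 0 from h0, mul_zero, mul_zero, add_zero]
      set φ : (ι → F) →ₗ[F] K := LinearMap.mulLeft F ((lam - 1) / n') ∘ₗ G.phi x' with hφ
      have hφl : IsKLin φ := isKLin_smul mul_comm (G.klin x') _
      have h1 : 1 + φ x' = lam := by simp [hφ, ← hn'def, hn']
      have hlam0 : lam ≠ 0 := right_ne_zero_of_mul_eq_one hlam1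
      set e := el S.hK φ hφl x' (by rw [h1]; exact isUnit_iff_ne_zero.mpr hlam0) with he
      have hex : ∀ t, (e : Matrix ι ι F) *ᵥ t = t + ev K x' ((lam - 1) / n' * G.phi x' t) :=
        fun t => by rw [he, el_mulVec]; rfl
      have hnb : G.bar n' = n' := self_fixed S G x'
      have heH : e ∈ H := mem_of_phi S G (el_comm _ _ _ _ _) (by
        rw [he, el_det, h1]; exact hlamd) fun a b => by
          rw [hex, hex]
          simp only [phi_add S G, map_add, phi_ev_left S G, phi_ev S.hK (G.klin _),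
            phi_swap S G x' b, ← hn'def, map_mul, map_div₀, map_sub, map_one, hnb]
          field_simp
          linear_combination (G.bar (G.phi x' b) * G.phi x' a) * hlam1
      have hstab := hc e heH (by rw [hex, hx'y, mul_zero, map_zero, add_zero])
      let W : Submodule F K := Submodule.comap (ev K x') T
      have hW1 : lam - 1 ∈ W := by
        show ev K x' (lam - 1) ∈ T
        have hxx : G.phi x' x = n' := by
          rw [hn'def]; conv_rhs => arg 2; rw [hx']
          rw [map_sub, phi_ev S.hK (G.klin x'), hx'y, mul_zero, sub_zero]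
        have := sub_mem (hstab x hxT) hxT
        rwa [hex, add_sub_cancel_left, hxx, div_mul_cancel₀ _ hn'] at this
      let C : Subalgebra F K :=
        { carrier := {d | ∀ w ∈ W, d * w ∈ W}
          mul_mem' := fun {a b} ha hb w hw => by rw [mul_assoc]; exact ha _ (hb _ hw)
          one_mem' := fun w hw => by rwa [one_mul]
          add_mem' := fun {a b} ha hb w hw => by rw [add_mul]; exact add_mem (ha _ hw) (hb _ hw)
          zero_mem' := fun w _ => by rw [zero_mul]; exact zero_mem W
          algebraMap_mem' := fun c w hw => by rw [← Algebra.smul_def]; exact W.smul_mem c hw }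
      have hlC : lam ∈ C := fun w hw => by
        have := hstab _ (show ev K x' w ∈ T from hw)
        rw [hex, phi_ev S.hK (G.klin x'), ← hn'def, ← map_add,
          show w + (lam - 1) / n' * (w * n') = lam * w by field_simp; ring] at this
        exact this
      haveI : IsSimpleOrder (Subalgebra F K) :=
        Subalgebra.isSimpleOrder_of_finrank_prime F K (S.hK.finrank_eq.symm ▸ S.hr)
      have hC : C = ⊤ := (IsSimpleOrder.eq_bot_or_eq_top C).resolve_left fun hb' => by
        rw [hb', Algebra.mem_bot] at hlC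
        obtain ⟨s, hs⟩ := hlC
        have hs0 : σ s ≠ 0 := fun h => hlam0 (by
          rw [← hs, σ.map_eq_zero_iff.mp h, map_zero])
        refine hlamF (s / σ s) ?_
        rw [← hs, bar_algebraMap S G, Algebra.smul_def, ← map_mul, div_mul_cancel₀ _ hs0]
      have hl1 : lam - 1 ≠ 0 := fun h => hlamF 1 (by
        rw [sub_eq_zero.mp h, map_one, one_smul])
      have hle : kline K x' ≤ T := by
        rintro _ ⟨k, rfl⟩
        have := (hC ▸ Algebra.mem_top : k / (lam - 1) ∈ C) _ hW1
        rwa [div_mul_cancel₀ _ hl1] at this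
      have heq := Submodule.eq_of_le_of_finrank_eq hle
        (by rw [hrkT, finrank_kline S.hK hx'0])
      obtain ⟨μ, hμ⟩ : y ∈ kline K x' := heq.symm ▸ hyT
      have := congrArg (G.phi y) hμ
      rw [phi_ev S.hK (G.klin y), hyx', mul_zero] at this
      exact hyiso this.symm
    · -- isotropic vectors orthogonal to `y`
      obtain ⟨t, ht⟩ := exists_moved S
      set η : K := algebraMap F K (t - σ t) with hη
      have htd : t - σ t ≠ 0 := sub_ne_zero.mpr ht.symm
      have hηb : G.bar η = -η := by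
        rw [hη, bar_algebraMap S G, ← map_neg, map_sub, S.hf.involutive, neg_sub]
      have hTb : G.bar (algebraMap F K t) ≠ algebraMap F K t := by
        rw [bar_algebraMap S G]; exact fun h => ht ((algebraMap F K).injective h)
      have main : ∀ w, G.phi w w = 0 → G.phi y w = 0 → G.phi w x = 0 := by
        intro w hw hyw
        by_contra hne
        have hw0 : w ≠ 0 := fun h => hne (by rw [h]; exact phi_zero_left S G x)
        have hskew : ∀ k, G.bar k = -k → ev K w (k * G.phi w x) ∈ T := fun k hk => by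
          obtain ⟨e, he, -, hex⟩ := inH_transvection S G hw hk
          have := sub_mem (hc e he (by
            rw [hex, phi_zero_swap S G hyw, mul_zero, map_zero, add_zero]) x hxT) hxT
          rwa [hex, add_sub_cancel_left] at this
        have hfix : ∀ c, G.bar c = c → ev K w (c * G.phi w x) ∈ T := fun c hc' => by
          have := hskew (η * c) (by rw [map_mul, hηb, hc', neg_mul])
          rw [hη, ← Algebra.smul_def, smul_mul_assoc, map_smul] at this
          exact (Submodule.smul_mem_iff T htd).mp this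
        have hle : kline K w ≤ T := by
          rintro _ ⟨k, rfl⟩
          obtain ⟨a, b, ha, hb, hab⟩ :=
            exists_fixed_pair G.bar (bar_bar S G) hTb (k / G.phi w x)
          rw [show k = (a + algebraMap F K t * b) * G.phi w x by rw [← hab, div_mul_cancel₀ _ hne],
            add_mul, map_add, ← Algebra.smul_def, smul_mul_assoc, map_smul]
          exact add_mem (hfix a ha) (T.smul_mem t (hfix b hb))
        have heq := Submodule.eq_of_le_of_finrank_eq hle
          (by rw [hrkT, finrank_kline S.hK hw0])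
        obtain ⟨μ, hμ⟩ : y ∈ kline K w := heq.symm ▸ hyT
        exact hyiso (by rw [← hμ]; exact phi_line S G hw μ μ)
      obtain ⟨w1, hw1y', hw10, hw1⟩ := exists_iso S G (stable_ker S G y) (by
        have := finrank_ker_ge S (G.phi y)
        have := S.hr.pos
        omega)
      have hw1y : G.phi y w1 = 0 := hw1y'
      obtain ⟨p, hp⟩ := exists_phi_one S G hw10
      obtain ⟨p1, hp1⟩ : ∃ p1, p1 = p - ev K y ((G.phi y y)⁻¹ * G.phi y p) := ⟨_, rfl⟩
      have hw1p1 : G.phi w1 p1 = 1 := by
        rw [hp1, map_sub, phi_ev S.hK (G.klin w1), phi_zero_swap S G hw1y, mul_zero, sub_zero, hp]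
      have hyp1 : G.phi y p1 = 0 := by
        rw [hp1, map_sub, phi_ev S.hK (G.klin y), mul_right_comm, inv_mul_cancel₀ hyiso, one_mul,
          sub_self]
      obtain ⟨s, hs⟩ := exists_trace_bar S G (show G.bar (-G.phi p1 p1) = -G.phi p1 p1 by
        rw [map_neg, self_fixed S G])
      obtain ⟨w2, hw2⟩ : ∃ w2, w2 = p1 + ev K w1 s := ⟨_, rfl⟩
      have h22 : G.phi w2 w2 = 0 := by
        simp only [hw2, phi_add S G, map_add, phi_ev_left S G, phi_ev S.hK (G.klin _), hw1, hw1p1,
          phi_swap S G w1 p1, map_one]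
        linear_combination hs
      have h12 : G.phi w1 w2 = 1 := by
        rw [hw2, map_add, hw1p1, phi_ev S.hK (G.klin w1), hw1, mul_zero, add_zero]
      have h21 : G.phi w2 w1 = 1 := by rw [phi_swap S G w1 w2, h12, map_one]
      have hy2 : G.phi y w2 = 0 := by
        rw [hw2, map_add, hyp1, phi_ev S.hK (G.klin y), hw1y, mul_zero, add_zero]
      have hxw : ∀ w, G.phi w w = 0 → G.phi y w = 0 → G.phi x' w = 0 := fun w a b => by
        rw [hx', phi_sub S G, phi_ev_left S G, b, mul_zero, sub_zero]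
        exact phi_zero_swap S G (main w a b)
      refine hx'0 (phi_eq_zero S G fun t' => ?_)
      obtain ⟨t0, ht0⟩ : ∃ t0, t0 = t' - ev K y ((G.phi y y)⁻¹ * G.phi y t') := ⟨_, rfl⟩
      have hyt0 : G.phi y t0 = 0 := by
        rw [ht0, map_sub, phi_ev S.hK (G.klin y), mul_right_comm, inv_mul_cancel₀ hyiso, one_mul,
          sub_self]
      obtain ⟨t1, ht1⟩ : ∃ t1,
          t1 = t0 - ev K w1 (G.phi w2 t0) - ev K w2 (G.phi w1 t0) := ⟨_, rfl⟩
      have e1 : G.phi w1 t1 = 0 := by
        simp [ht1, phi_ev S.hK (G.klin w1), hw1, h12, -ev_apply]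
      have e2 : G.phi w2 t1 = 0 := by
        simp [ht1, phi_ev S.hK (G.klin w2), h22, h21, -ev_apply]
      have e3 : G.phi y t1 = 0 := by
        simp [ht1, phi_ev S.hK (G.klin y), hyt0, hw1y, hy2, -ev_apply]
      obtain ⟨s', hs'⟩ := exists_trace_bar S G (show G.bar (-G.phi t1 t1) = -G.phi t1 t1 by
        rw [map_neg, self_fixed S G])
      have h5 := hxw (w2 + t1 + ev K w1 s')
        (by
          simp only [phi_add S G, map_add, phi_ev_left S G, phi_ev S.hK (G.klin _), hw1, h22, h12,
            h21, e1, e2, phi_zero_swap S G e1, phi_zero_swap S G e2]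
          linear_combination hs')
        (by simp [phi_ev S.hK (G.klin y), hy2, e3, hw1y, -ev_apply])
      rw [map_add, map_add, phi_ev S.hK (G.klin x'), hxw w1 hw1 hw1y, hxw w2 h22 hy2, mul_zero,
        add_zero, zero_add] at h5
      have e : t' = t1 + ev K w1 (G.phi w2 t0) + ev K w2 (G.phi w1 t0) +
          ev K y ((G.phi y y)⁻¹ * G.phi y t') := by rw [ht1, ht0]; abel
      rw [e, map_add, map_add, map_add, h5, phi_ev S.hK (G.klin x'), phi_ev S.hK (G.klin x'),
        phi_ev S.hK (G.klin x'), hxw w1 hw1 hw1y, hxw w2 h22 hy2, hx'y, mul_zero, mul_zero,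
        mul_zero, add_zero, add_zero, add_zero]
  -- the conjugate
  refine transfer (g⁻¹ * e * g) (mul_mem (mul_mem (inv_mem hg) he) hg) u hu hu0 (fun heq => hez ?_)
    ⟨u, self_mem_kline u, hu0, mem_lineImg.mpr ⟨1, ?_⟩⟩
  · obtain ⟨μ, hμ⟩ := mem_lineImg.mp hz
    have : ((g⁻¹ * e * g : GL ι F) : Matrix ι ι F) *ᵥ ev K u μ ∈ kline K u :=
      heq ▸ mem_lineImg.mpr ⟨μ, rfl⟩
    rw [Units.val_mul, Units.val_mul, ← mulVec_mulVec, ← mulVec_mulVec, hμ] at this
    obtain ⟨ν, hν⟩ := this
    exact mem_lineImg.mpr ⟨ν, by rw [hν, mulVec_inv_mulVec]⟩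
  · rw [ev_one, Units.val_mul, Units.val_mul, ← mulVec_mulVec, ← mulVec_mulVec, ← hy, hey, hy,
      inv_mulVec_mulVec]

/-- An element of `H` stabilising the line of `v`, adding a rank one map on it. -/
theorem exists_stabilizer {v : ι → F} (hv : G.phi v v = 0) (hv0 : v ≠ 0)
    (hn' : ∃ g ∈ H, ∃ (x : ι → F), G.phi x x = 0 ∧ ∃ k : K,
      (g : Matrix ι ι F) *ᵥ ((k : Matrix ι ι F) *ᵥ x) ∉ kline K ((g : Matrix ι ι F) *ᵥ x)) :
    ∃ g ∈ H, ∃ (κ : K) (θ : K →ₗ[F] F), κ ≠ 0 ∧ θ ≠ 0 ∧
      ∀ μ, (g : Matrix ι ι F) *ᵥ ev K v μ = ev K v μ + θ μ • ev K v κ := by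
  classical
  letI : Field K := (isField_of S.hK S.one_le).toField
  haveI : Module.Finite F K :=
    Module.finite_of_finrank_pos (by rw [S.hK.finrank_eq]; exact S.hr.pos)
  set L := kline K v with hL
  let P : ℕ → Prop := fun a => ∃ h ∈ H, lineImg K h v ≠ L ∧
    Module.finrank F ↥(L ⊓ lineImg K h v) = a
  obtain ⟨h1, hh1, hne1, hpos1⟩ := exists_meeting S G hn hv hv0 hn'
  have hle : ∀ g : GL ι F, Module.finrank F ↥(L ⊓ lineImg K g v) ≤ r := fun g =>
    (Submodule.finrank_mono inf_le_left).trans (finrank_kline S.hK hv0).le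
  obtain ⟨h, hh, hne, ha⟩ := Nat.findGreatest_spec (P := P) (hle h1) ⟨h1, hh1, hne1, rfl⟩
  have hmax : ∀ g ∈ H, lineImg K g v ≠ L →
      Module.finrank F ↥(L ⊓ lineImg K g v) ≤ Module.finrank F ↥(L ⊓ lineImg K h v) :=
    fun g hg hgne => ha ▸ Nat.le_findGreatest (hle g) ⟨g, hg, hgne, rfl⟩
  set L' := lineImg K h v with hL'
  have hrL : Module.finrank F L = r := finrank_kline S.hK hv0
  have hr' : Module.finrank F L' = r := finrank_lineImg S.hK h hv0
  have hposA : 0 < Module.finrank F ↥(L ⊓ L') := hpos1.trans_le (hmax h1 hh1 hne1)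
  obtain ⟨c, hc0, hcL⟩ : ∃ c : K, c ≠ 0 ∧ ev K v c ∈ L' := by
    obtain ⟨⟨y, hy, hy'⟩, hy0⟩ := Module.finrank_pos_iff_exists_ne_zero.mp hposA
    obtain ⟨c, rfl⟩ := hy
    exact ⟨c, fun h => hy0 (Subtype.ext (by simp [h])), hy'⟩
  obtain ⟨l0, hl0, hl0L⟩ : ∃ l ∈ L', l ∉ L := by
    by_contra hc'
    push Not at hc'
    exact hne (Submodule.eq_of_le_of_finrank_eq hc' (by rw [hr', hrL]))
  have claimA : ∀ e ∈ H, (∀ x ∈ L, (e : Matrix ι ι F) *ᵥ x = x) → ∀ l ∈ L', l ∉ L →
      (e : Matrix ι ι F) *ᵥ l ∈ L' → ∀ x ∈ L', (e : Matrix ι ι F) *ᵥ x ∈ L' := by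
    intro e he hefix l hl hlL hel
    have heL : lineImg K (h⁻¹ * e * h) v = L := by
      by_contra hne'
      have h2 := hmax _ (mul_mem (mul_mem (inv_mem hh) he) hh) hne'
      set T := (L ⊓ L') ⊔ Submodule.span F {l}
      have hT : ∀ s ∈ T, s ∈ L' ∧ (e : Matrix ι ι F) *ᵥ s ∈ L' := by
        intro s hs
        obtain ⟨y, hy, z, hz, rfl⟩ := Submodule.mem_sup.mp hs
        obtain ⟨a, rfl⟩ := Submodule.mem_span_singleton.mp hz
        refine ⟨add_mem hy.2 (L'.smul_mem a hl), ?_⟩
        rw [mulVec_add, mulVec_smul, hefix y hy.1]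
        exact add_mem hy.2 (L'.smul_mem a hel)
      have hlt : L ⊓ L' < T := lt_of_le_of_ne le_sup_left fun he' => hlL
        ((he' ▸ Submodule.mem_sup_right (Submodule.mem_span_singleton_self l) : l ∈ L ⊓ L').1)
      have h3 : T.map ((h⁻¹ * e : GL ι F) : Matrix ι ι F).mulVecLin ≤
          L ⊓ lineImg K (h⁻¹ * e * h) v := by
        rintro _ ⟨s, hs, rfl⟩
        obtain ⟨μ, hμ⟩ := mem_lineImg.mp (hT s hs).1
        refine ⟨?_, mem_lineImg.mpr ⟨μ, ?_⟩⟩
        · show ((h⁻¹ * e : GL ι F) : Matrix ι ι F) *ᵥ s ∈ L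
          rw [Units.val_mul, ← mulVec_mulVec]
          exact inv_mem_kline (hT s hs).2
        · show _ = ((h⁻¹ * e : GL ι F) : Matrix ι ι F) *ᵥ s
          rw [← hμ, Units.val_mul (h⁻¹ * e) h, ← mulVec_mulVec]
      have h4 := Submodule.finrank_mono h3
      rw [finrank_map_gl] at h4
      have h5 := Submodule.finrank_lt_finrank_of_lt hlt
      omega
    intro x hx
    obtain ⟨μ, hμ⟩ := mem_lineImg.mp hx
    have h2 : ((h⁻¹ * e * h : GL ι F) : Matrix ι ι F) *ᵥ ev K v μ ∈ L :=
      heL ▸ mem_lineImg.mpr ⟨μ, rfl⟩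
    rw [Units.val_mul, Units.val_mul, ← mulVec_mulVec, ← mulVec_mulVec, hμ] at h2
    obtain ⟨ν, hν⟩ := h2
    exact mem_lineImg.mpr ⟨ν, by rw [hν, mulVec_inv_mulVec]⟩
  set φ := G.phi v with hφdef
  have hφL : ∀ x ∈ L, φ x = 0 := by
    rintro _ ⟨μ, rfl⟩
    rw [phi_ev S.hK (G.klin v), hv, mul_zero]
  -- a point of the image orthogonal to `v`
  have claimS : ∀ l ∈ L', l ∉ L → φ l = 0 →
      (∀ x ∈ L', φ x = 0) ∧ ∀ x ∈ L', ∃ a : F, x - a • l ∈ L := by
    intro l hl hlL hφl
    have hcard : 4 * r ≤ Fintype.card ι := by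
      refine hn.resolve_left fun h2r => hlL ?_
      have heq : L = LinearMap.ker φ := by
        refine Submodule.eq_of_le_of_finrank_le hφL ?_
        have h2 := LinearMap.finrank_range_add_finrank_ker φ
        have h3 : LinearMap.range φ = ⊤ := LinearMap.range_eq_top.mpr fun k => by
          obtain ⟨y, hy⟩ := exists_phi_one S G hv0
          exact ⟨ev K y k, by rw [phi_ev S.hK (G.klin v), hy, mul_one]⟩
        rw [h3, finrank_top, S.hK.finrank_eq, Module.finrank_fintype_fun_eq_card, h2r.1] at h2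
        rw [hrL]
        omega
      rw [heq]
      exact hφl
    have step : ∀ w, φ w = 0 → ev K v (G.phi w l) ∈ L' → ∀ x ∈ L', ∃ c' : K,
        ev K w (φ x) - ev K v (G.phi w x) + ev K v (c' * φ x) ∈ L' := by
      intro w hφw hwl x hx
      obtain ⟨c', -, e, he, -, hex⟩ := inH_siegel S G hv (show G.phi v w = 0 from hφw)
      refine ⟨c', ?_⟩
      have hfix : ∀ y ∈ L, (e : Matrix ι ι F) *ᵥ y = y := by
        rintro _ ⟨μ, rfl⟩
        rw [hex, phi_ev S.hK (G.klin v), phi_ev S.hK (G.klin w), hv,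
          phi_zero_swap S G (show G.phi v w = 0 from hφw)]
        simp
      have h2 := claimA e he hfix l hl hlL (by
        rw [hex, ← hφdef, hφl, mul_zero, map_zero, map_zero, add_zero, add_zero]
        exact sub_mem hl hwl) x hx
      rw [hex] at h2
      have := sub_mem h2 hx
      convert this using 1
      abel
    have hzero : ∀ x ∈ L', φ x = 0 := by
      intro x hx
      by_contra hx0
      set W := LinearMap.ker φ ⊓ LinearMap.ker (G.phi l) with hW
      have hle' : W ≤ L ⊔ L' := by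
        rintro y ⟨hy1, hy2⟩
        have hy1' : φ y = 0 := hy1
        have hy2' : G.phi y l = 0 := phi_zero_swap S G hy2
        set w := ev K y (φ x)⁻¹ with hw
        obtain ⟨c', h3⟩ := step w (by rw [hw, phi_ev S.hK (G.klin v), ← hφdef, hy1', mul_zero])
          (by rw [hw, phi_ev_left S G, hy2', mul_zero, map_zero]; exact zero_mem _) x hx
        have h4 : ev K w (φ x) ∈ L ⊔ L' := by
          rw [show ev K w (φ x) = (ev K w (φ x) - ev K v (G.phi w x) + ev K v (c' * φ x)) +
            (ev K v (G.phi w x) - ev K v (c' * φ x)) by abel]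
          exact add_mem (Submodule.mem_sup_right h3)
            (Submodule.mem_sup_left (sub_mem ⟨_, rfl⟩ ⟨_, rfl⟩))
        rwa [hw, ev_apply _ (φ x), ← ev_mul, mul_inv_cancel₀ hx0, ev_one] at h4
      have h2 := Submodule.finrank_mono hle'
      have h3 := Submodule.finrank_sup_add_finrank_inf_eq L L'
      have h4 := finrank_ker_ge S φ
      have h5 := finrank_inf_ker_ge S (LinearMap.ker φ) (G.phi l)
      rw [← hW] at h5
      omega
    refine ⟨hzero, Sp.decomp_of_closed S.hK S.hr hv0 hr' hne hc0 hcL hl hlL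
      fun ψ hψ hψv hψl x hx => ?_⟩
    obtain ⟨w, hw⟩ := exists_phi_eq S G hψ
    have hφw : φ w = 0 := phi_zero_swap S G (by rw [hw, hψv])
    obtain ⟨c', h2⟩ := step w hφw (by rw [hw]; exact hψl) x hx
    rwa [hzero x hx, mul_zero, map_zero, map_zero, zero_sub, add_zero, neg_mem_iff, hw] at h2
  -- the element fixing the line
  obtain ⟨e, heH, l, c1, hc10, hc1L, hl, hlL, hdec, hefix, hel⟩ : ∃ e ∈ H, ∃ (l : ι → F) (c1 : K),
      c1 ≠ 0 ∧ ev K v c1 ∈ L' ∧ l ∈ L' ∧ l ∉ L ∧ (∀ x ∈ L', ∃ a : F, x - a • l ∈ L) ∧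
      (∀ x ∈ L, (e : Matrix ι ι F) *ᵥ x = x) ∧
      (e : Matrix ι ι F) *ᵥ l = l + ev K v c1 := by
    by_cases hex : ∀ x ∈ L', φ x = 0
    · obtain ⟨-, hdec⟩ := claimS l0 hl0 hl0L (hex l0 hl0)
      obtain ⟨ψ, hψ, hψL, hψl⟩ := exists_klin S.hK S.one_le (stable_kline v) hl0L
      obtain ⟨w, hw⟩ := exists_phi_eq S G (isKLin_smul mul_comm hψ (-c))
      have hwv : G.phi w v = 0 := by
        rw [hw]
        show -c * ψ v = 0
        rw [hψL v (self_mem_kline v), mul_zero]
      obtain ⟨c', -, e, he, -, hexv⟩ := inH_siegel S G hv (phi_zero_swap S G hwv)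
      refine ⟨e, he, l0, c, hc0, hcL, hl0, hl0L, hdec, fun x hx => ?_, ?_⟩
      · obtain ⟨μ, rfl⟩ := hx
        rw [hexv, phi_ev S.hK (G.klin v), phi_ev S.hK (G.klin w), hv, hwv]
        simp
      · rw [hexv, ← hφdef, hex l0 hl0, hw]
        simp [hψl, -ev_apply]
    · push Not at hex
      obtain ⟨l, hl, hφl⟩ := hex
      have hlL : l ∉ L := fun h0 => hφl (hφL l h0)
      have hinj : ∀ x ∈ L', φ x = 0 → x ∈ L := fun x hx hx0 => by
        by_contra hout
        exact hφl ((claimS x hx hout hx0).1 l hl)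
      set D := Submodule.map φ L' with hD
      have hdD : φ l ∈ D := ⟨l, hl, rfl⟩
      have hDdim : Module.finrank F D + Module.finrank F ↥(L ⊓ L') = r := by
        have h2 := LinearMap.finrank_range_add_finrank_ker (φ.domRestrict L')
        have h3 : LinearMap.range (φ.domRestrict L') = D := by
          rw [hD, LinearMap.range_domRestrict]
        have h4 : LinearMap.ker (φ.domRestrict L') = Submodule.comap L'.subtype L := by
          refine SetLike.ext fun x => ⟨fun hx => hinj x.1 x.2 hx, fun hx => hφL x.1 hx⟩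
        rw [h3, h4, hr', ← Submodule.finrank_map_subtype_eq, Submodule.map_comap_subtype,
          inf_comm] at h2
        exact h2
      let W : Submodule F K := Submodule.comap (ev K v) L'
      let Wb : Submodule F K :=
        { carrier := {z | G.bar z ∈ W}
          add_mem' := fun {a b} ha hb => by
            show G.bar (a + b) ∈ W
            rw [map_add]; exact add_mem ha hb
          zero_mem' := by show G.bar 0 ∈ W; rw [map_zero]; exact zero_mem W
          smul_mem' := fun s a ha => by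
            show G.bar (s • a) ∈ W
            rw [bar_smul S G]; exact W.smul_mem _ ha }
      have hWdim : Module.finrank F W = Module.finrank F ↥(L ⊓ L') := by
        rw [← LinearMap.finrank_range_of_inj
          (f := ev K v ∘ₗ W.subtype) ((ev_injective S.hK hv0).comp W.injective_subtype)]
        suffices he : LinearMap.range (ev K v ∘ₗ W.subtype) = L ⊓ L' by rw [he]
        refine le_antisymm ?_ ?_
        · rintro _ ⟨⟨z, hz⟩, rfl⟩
          exact ⟨⟨z, rfl⟩, hz⟩
        · rintro _ ⟨⟨z, rfl⟩, hz⟩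
          exact ⟨⟨z, hz⟩, rfl⟩
      have hWbdim : Module.finrank F Wb = Module.finrank F W := by
        have e : Nat.card Wb = Nat.card W := Nat.card_congr
          { toFun := fun z => ⟨G.bar z, z.2⟩
            invFun := fun z => ⟨G.bar z, by
              show G.bar (G.bar z) ∈ W; rw [bar_bar S G]; exact z.2⟩
            left_inv := fun z => Subtype.ext (bar_bar S G z)
            right_inv := fun z => Subtype.ext (bar_bar S G z) }
        rw [Module.natCard_eq_pow_finrank (K := F) (V := Wb),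
          Module.natCard_eq_pow_finrank (K := F) (V := W)] at e
        exact Nat.pow_right_injective Finite.one_lt_card e
      let B := Algebra.traceForm F K
      have hWb : Wb = B.orthogonal D := by
        refine Submodule.eq_of_le_of_finrank_le ?_ ?_
        · intro z hz d hd
          obtain ⟨x, hx, rfl⟩ := hd
          show Algebra.trace F K (φ x * z) = 0
          obtain ⟨a, rfl⟩ := mem_lineImg.mp hx
          obtain ⟨b, hb⟩ := mem_lineImg.mp (show ev K v (G.bar z) ∈ L' from hz)
          have e1 : f ((h : Matrix ι ι F) *ᵥ ev K v a) (ev K v (G.bar z)) = 0 := by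
            rw [← hb, isom_form S hh, ← phi_one S G, phi_line S G hv, map_zero]
          rw [ev_apply v (G.bar z), ← G.adj, ← G.spec, ← hφdef] at e1
          rw [mul_comm]
          exact e1
        · have h2 := LinearMap.BilinForm.finrank_orthogonal (B := B)
            (traceForm_nondegenerate F K) D
          rw [S.hK.finrank_eq] at h2
          rw [hWbdim, hWdim]
          omega
      obtain ⟨t, ht⟩ := exists_moved S
      set η : K := algebraMap F K (t - σ t) with hη
      have htd : t - σ t ≠ 0 := sub_ne_zero.mpr ht.symm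
      have hη0 : η ≠ 0 := (map_ne_zero _).mpr htd
      have hηb : G.bar η = -η := by
        rw [hη, bar_algebraMap S G, ← map_neg, map_sub, S.hf.involutive, neg_sub]
      have hkey : ∀ y : K, G.bar y = y → ∀ d, (∀ d' ∈ D,
          Algebra.trace F K (y * G.bar d * d') = 0) → ev K v (η * y * d) ∈ L' := by
        intro y hy d hd
        have hmem : G.bar (η * y * d) ∈ Wb := by
          rw [hWb]
          intro d' hd'
          show Algebra.trace F K (d' * G.bar (η * y * d)) = 0
          rw [map_mul G.bar, map_mul G.bar, hηb, hy,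
            show d' * (-η * y * G.bar d) = -(η * (y * G.bar d * d')) by ring, map_neg, hη,
            ← Algebra.smul_def, map_smul, hd d' hd', smul_zero, neg_zero]
        have h' : G.bar (G.bar (η * y * d)) ∈ W := hmem
        rwa [bar_bar S G] at h'
      have hskew : ∀ y : K, G.bar y = y → G.bar (η * y) = -(η * y) := fun y hy => by
        rw [map_mul, hηb, hy, neg_mul]
      have hfixL : ∀ (e : GL ι F) (k : K), (∀ x, (e : Matrix ι ι F) *ᵥ x =
          x + ev K v (k * φ x)) → ∀ x ∈ L, (e : Matrix ι ι F) *ᵥ x = x := fun e k he x hx => by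
        rw [he, hφL x hx, mul_zero, map_zero, add_zero]
      have hDpos : 0 < Module.finrank F D :=
        Module.finrank_pos_iff_exists_ne_zero.mpr
          ⟨⟨φ l, hdD⟩, fun h0 => hφl (congrArg Subtype.val h0)⟩
      have hb1 : Module.finrank F D = 1 := by
        by_contra hb
        obtain ⟨y, d, hy, hd, hd0, hrad, d1, hd1, d2, hd2, hne12⟩ :=
          exists_singular (isBar S G) (S.hK.finrank_eq.symm ▸ S.hr) D (by omega)
            (by rw [S.hK.finrank_eq]; omega)
        obtain ⟨l', hl', hld⟩ := hd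
        obtain ⟨e, he, -, hexv⟩ := inH_transvection S G hv (hskew y hy)
        have hl'L : l' ∉ L := fun h0 => hd0 (by rw [← hld, hφL l' h0])
        have hall := claimA e he (hfixL e _ hexv) l' hl' hl'L (by
          rw [hexv, ← hφdef, hld]; exact add_mem hl' (hkey y hy d hrad))
        refine hne12 ?_
        obtain ⟨x1, hx1, rfl⟩ := hd1
        have h6 := sub_mem (hall x1 hx1) hx1
        rw [hexv, add_sub_cancel_left, ← hφdef] at h6
        have h7 : G.bar (η * y * φ x1) ∈ B.orthogonal D := by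
          rw [← hWb]
          show G.bar (G.bar _) ∈ W
          rw [bar_bar S G]
          exact h6
        have h8 : Algebra.trace F K (d2 * G.bar (η * y * φ x1)) = 0 := h7 d2 hd2
        rw [map_mul G.bar, map_mul G.bar, hηb, hy,
          show d2 * (-η * y * G.bar (φ x1)) = -(η * (y * G.bar (φ x1) * d2)) by ring, map_neg,
          neg_eq_zero, hη, ← Algebra.smul_def, map_smul, smul_eq_mul] at h8
        exact (mul_eq_zero.mp h8).resolve_left htd
      have hspan : ∀ d' ∈ D, ∃ s : F, d' = s • φ l := fun d' hd' => by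
        obtain ⟨s, hs⟩ := exists_smul_eq_of_finrank_eq_one hb1
          (x := (⟨φ l, hdD⟩ : D)) (fun h0 => hφl (congrArg Subtype.val h0)) ⟨d', hd'⟩
        exact ⟨s, (congrArg Subtype.val hs).symm⟩
      set n := G.bar (φ l) * φ l with hndef
      have hnb : G.bar n = n := by rw [hndef, map_mul, bar_bar S G, mul_comm]
      obtain ⟨y, hy, hy0, hyn⟩ : ∃ y : K, G.bar y = y ∧ y ≠ 0 ∧
          Algebra.trace F K (y * n) = 0 := by
        obtain ⟨w, hwb, hwF⟩ := exists_fixed_notMem S G
        by_cases h0 : Algebra.trace F K n = 0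
        · exact ⟨1, map_one _, one_ne_zero, by rwa [one_mul]⟩
        refine ⟨Algebra.trace F K n • w - Algebra.trace F K (w * n) • 1, ?_, fun h1 => ?_, ?_⟩
        · rw [map_sub, bar_smul S G, bar_smul S G, hwb, map_one]
          congr 2
          · show σ (tr K n) = tr K n
            rw [← tr_bar S G, hnb]
          · show σ (tr K (w * n)) = tr K (w * n)
            rw [← tr_bar S G, map_mul, hnb, hwb]
        · refine hwF ((Algebra.trace F K n)⁻¹ * Algebra.trace F K (w * n)) ?_
          rw [sub_eq_zero] at h1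
          rw [map_mul, ← Algebra.smul_def, Algebra.algebraMap_eq_smul_one, ← h1, smul_smul,
            inv_mul_cancel₀ h0, one_smul]
        · rw [sub_mul, smul_mul_assoc, smul_mul_assoc, one_mul, map_sub, map_smul, map_smul,
            smul_eq_mul, smul_eq_mul]
          ring
      obtain ⟨e, he, -, hexv⟩ := inH_transvection S G hv (hskew y hy)
      refine ⟨e, he, l, η * y * φ l, mul_ne_zero (mul_ne_zero hη0 hy0) hφl,
        hkey y hy (φ l) fun d' hd' => ?_, hl, hlL, fun x hx => ?_, hfixL e _ hexv, ?_⟩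
      · obtain ⟨s, rfl⟩ := hspan d' hd'
        rw [mul_smul_comm, map_smul, mul_assoc, ← hndef, hyn, smul_zero]
      · obtain ⟨s, hs⟩ := hspan (φ x) ⟨x, hx, rfl⟩
        exact ⟨s, hinj _ (sub_mem hx (L'.smul_mem s hl))
          (by rw [map_sub, map_smul, hs, sub_self])⟩
      · rw [hexv]
  obtain ⟨κ, hκ⟩ := mem_lineImg.mp hc1L
  obtain ⟨ξ, hξ, hξl⟩ := exists_annihilator hlL
  refine ⟨h⁻¹ * e * h, mul_mem (mul_mem (inv_mem hh) heH) hh, κ,
    dotLin ξ ∘ₗ (h : Matrix ι ι F).mulVecLin ∘ₗ ev K v, ?_, ?_, fun μ => ?_⟩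
  · exact fun h0 => hc10 (ev_injective S.hK hv0 (by rw [← hκ, h0, map_zero, mulVec_zero]))
  · intro h0
    obtain ⟨lam, hlam⟩ := mem_lineImg.mp hl
    have h2 : ξ ⬝ᵥ ((h : Matrix ι ι F) *ᵥ ev K v lam) = 0 := LinearMap.congr_fun h0 lam
    rw [hlam, hξl] at h2
    exact one_ne_zero h2
  · obtain ⟨a, ha⟩ := hdec _ (mem_lineImg.mpr ⟨μ, rfl⟩)
    have h2 : ξ ⬝ᵥ ((h : Matrix ι ι F) *ᵥ ev K v μ) = a := by
      have := hξ _ ha
      rwa [dotProduct_sub, dotProduct_smul, hξl, smul_eq_mul, mul_one, sub_eq_zero] at this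
    show _ = ev K v μ + (ξ ⬝ᵥ ((h : Matrix ι ι F) *ᵥ ev K v μ)) • ev K v κ
    rw [h2]
    refine mulVec_injective h ?_
    show (h : Matrix ι ι F) *ᵥ _ = (h : Matrix ι ι F) *ᵥ _
    rw [Units.val_mul, Units.val_mul, ← mulVec_mulVec, ← mulVec_mulVec, mulVec_inv_mulVec,
      mulVec_add, mulVec_smul, hκ]
    have h3 := hefix _ ha
    rw [mulVec_sub, mulVec_smul, hel, smul_add, sub_add_eq_sub_sub] at h3
    linear_combination (norm := module) h3

end Cfsg.Agent.ExtFieldMax.Herm
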