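import Cfsg.Agent.ExtFieldMax.Herm.Intersect
import Cfsg.Agent.MaxSub.HermStabStd

/-!
Maximality of the normalisers of adjoint closed fields in special unitary groups (helper71).
-/

set_option autoImplicit false

namespace Cfsg.Agent.ExtFieldMax.Herm

open Matrix Cfsg.Agent.MaxSub

variable {ι : Type} [Fintype ι] [DecidableEq ι] {F : Type*} [Field F] [Finite F]
variable {σ : F ≃+* F} {f : (ι → F) → (ι → F) → F}
variable {K : Subalgebra F (Matrix ι ι F)} {r : ℕ} {H : Subgroup (GL ι F)}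
variable (S : Setting σ f K r H) (G : Data f K)
include S

omit [Finite F] in
theorem exists_eta : ∃ t : F, t - σ t ≠ 0 ∧
    G.bar (algebraMap F K (t - σ t)) = -algebraMap F K (t - σ t) ∧
    G.bar (algebraMap F K t) ≠ algebraMap F K t := by
  letI : Field K := (isField_of S.hK S.one_le).toField
  obtain ⟨t, ht⟩ := exists_moved S
  refine ⟨t, sub_ne_zero.mpr ht.symm, ?_, ?_⟩
  · rw [bar_algebraMap S G, ← map_neg, map_sub, S.hf.involutive, neg_sub]
  · rw [bar_algebraMap S G]; exact fun h => ht ((algebraMap F K).injective h)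

omit [Finite F] in
theorem linear_ext_skew {A : Type*} [AddCommGroup A] [Module F A] {T T' : K →ₗ[F] A}
    (h : ∀ k, G.bar k = -k → T k = T' k) (k : K) : T k = T' k := by
  letI : Field K := (isField_of S.hK S.one_le).toField
  obtain ⟨t, htd, hη, hTb⟩ := exists_eta S G
  have hfix : ∀ c, G.bar c = c → T c = T' c := fun c hc => by
    have := h (algebraMap F K (t - σ t) * c) (by rw [map_mul, hη, hc, neg_mul])
    rw [← Algebra.smul_def, map_smul, map_smul] at this
    exact (smul_right_injective A htd) this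
  obtain ⟨a, b, ha, hb, rfl⟩ := exists_fixed_pair G.bar (bar_bar S G) hTb k
  rw [← Algebra.smul_def, map_add, map_add, map_smul, map_smul, hfix a ha, hfix b hb]

/-- The rotation about an anisotropic vector. -/
theorem exists_rot {a : ι → F} (ha : G.phi a a ≠ 0) {u : K} (hu : G.bar u * u = 1) :
    ∃ g : GL ι F, Comm K g ∧
      (∀ x y, G.phi ((g : Matrix ι ι F) *ᵥ y) ((g : Matrix ι ι F) *ᵥ x) = G.phi y x) ∧
      (∀ x, G.phi a x = 0 → (g : Matrix ι ι F) *ᵥ x = x) ∧
      (Matrix.GeneralLinearGroup.det g : F) = LinearMap.det (LinearMap.mulLeft F u) := by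
  letI : Field K := (isField_of S.hK S.one_le).toField
  set n := G.phi a a with hn
  have hnb : G.bar n = n := self_fixed S G a
  set φ : (ι → F) →ₗ[F] K := LinearMap.mulLeft F ((u - 1) / n) ∘ₗ G.phi a with hφ
  have hφl : IsKLin φ := isKLin_smul mul_comm (G.klin a) _
  have h1 : 1 + φ a = u := by simp [hφ, ← hn, ha]
  have hu0 : u ≠ 0 := right_ne_zero_of_mul_eq_one hu
  set e := el S.hK φ hφl a (by rw [h1]; exact isUnit_iff_ne_zero.mpr hu0) with he
  have hex : ∀ x, (e : Matrix ι ι F) *ᵥ x = x + ev K a ((u - 1) / n * G.phi a x) := fun x => by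
    rw [he, el_mulVec]; rfl
  refine ⟨e, el_comm _ _ _ _ _, fun x y => ?_, fun x hx => ?_, ?_⟩
  · rw [hex, hex]
    simp only [phi_add S G, map_add, phi_ev_left S G, phi_ev S.hK (G.klin _),
      phi_swap S G a y, ← hn, map_mul, map_div₀, map_sub, map_one, hnb]
    field_simp
    linear_combination (G.bar (G.phi a y) * G.phi a x) * hu
  · rw [hex, hx, mul_zero, map_zero, add_zero]
  · rw [he, el_det, h1]; rfl

/-- Elements moving the line of an isotropic vector by scalars moved by the adjoint. -/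
theorem exists_scale {v v' : ι → F} (hv : G.phi v v = 0) (hv' : G.phi v' v' = 0)
    (h : G.phi v v' = 1)
    (hn : (Fintype.card ι = 2 * r ∧ ∃ u, IsSpinner G u) ∨ 4 * r ≤ Fintype.card ι) :
    ∃ e : K, e ≠ 0 ∧ (∀ s : F, e ≠ s • G.bar e) ∧
      ∃ d ∈ H, Comm K d ∧ (d : Matrix ι ι F) *ᵥ v = ev K v e := by
  letI : Field K := (isField_of S.hK S.one_le).toField
  rcases hn with ⟨-, u, hu1, hud, huF⟩ | hcard
  · have hu0 : u ≠ 0 := right_ne_zero_of_mul_eq_one hu1
    obtain ⟨d, hdc, hdp, hdv, hdd⟩ := exists_torus S G hv hv' h hu0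
    refine ⟨u, hu0, huF, d, mem_of_phi S G hdc ?_ hdp, hdc, hdv⟩
    have h1 : Algebra.norm F u = 1 := hud
    have h2 := congrArg (Algebra.norm F) hu1
    rw [map_mul, h1, mul_one, map_one] at h2
    rw [hdd, h1, h2, inv_one, mul_one]
  · -- an anisotropic vector orthogonal to the pair
    obtain ⟨a, hva, hv'a, ha⟩ : ∃ a, G.phi v a = 0 ∧ G.phi v' a = 0 ∧ G.phi a a ≠ 0 := by
      by_contra hc
      push Not at hc
      obtain ⟨y, ⟨hy1', hy2'⟩, hy0⟩ := Submodule.exists_mem_ne_zero_of_ne_bot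
        (p := LinearMap.ker (G.phi v) ⊓ LinearMap.ker (G.phi v')) (fun h0 => by
          have h1 := finrank_ker_ge S (G.phi v)
          have h2 := finrank_inf_ker_ge S (LinearMap.ker (G.phi v)) (G.phi v')
          have := S.hr.pos
          rw [h0, finrank_bot] at h2
          omega)
      have hy1 : G.phi v y = 0 := hy1'
      have hy2 : G.phi v' y = 0 := hy2'
      refine hy0 (phi_eq_zero S G fun x => ?_)
      by_contra hd
      obtain ⟨x', hx'⟩ : ∃ x', x' = x - ev K v (G.phi v' x) - ev K v' (G.phi v x) := ⟨_, rfl⟩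
      have h' : G.phi v' v = 1 := by rw [phi_swap S G v v', h, map_one]
      have e1 : G.phi v x' = 0 := by simp [hx', phi_ev S.hK (G.klin v), hv, h, -ev_apply]
      have e2 : G.phi v' x' = 0 := by simp [hx', phi_ev S.hK (G.klin v'), hv', h', -ev_apply]
      have e3 : G.phi y x' = G.phi y x := by
        simp [hx', phi_ev S.hK (G.klin y), phi_zero_swap S G hy1, phi_zero_swap S G hy2, -ev_apply]
      obtain ⟨c, hc1⟩ := exists_trace_bar S G (map_one G.bar)
      set d := G.phi y x with hd'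
      have h0 := hc (ev K y (c * d) + x')
        (by rw [map_add, phi_ev S.hK (G.klin v), hy1, e1, mul_zero, add_zero])
        (by rw [map_add, phi_ev S.hK (G.klin v'), hy2, e2, mul_zero, add_zero])
      rw [phi_add S G, map_add, map_add, phi_ev_left S G, phi_ev_left S G,
        phi_ev S.hK (G.klin y), phi_ev S.hK (G.klin x'), hc y hy1 hy2, hc x' e1 e2,
        phi_swap S G y x', e3, map_mul] at h0
      have : G.bar d * d = 0 := by linear_combination h0 - (G.bar d * d) * hc1
      rcases mul_eq_zero.mp this with h5 | h5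
      · exact hd ((map_eq_zero_iff G.bar G.bar.injective).mp h5)
      · exact hd h5
    obtain ⟨w, hwb, hwF⟩ := exists_fixed_notMem S G
    obtain ⟨t, htd, hη, hTb⟩ := exists_eta S G
    set e := algebraMap F K t + w with he
    have heb : G.bar e = algebraMap F K (σ t) + w := by
      rw [he, map_add, bar_algebraMap S G, hwb]
    have he0 : e ≠ 0 := fun h0 => hwF (-t) (by rw [map_neg]; exact eq_neg_of_add_eq_zero_right h0)
    have hbe : G.bar e ≠ 0 := (map_ne_zero _).mpr he0
    obtain ⟨d₁, hd₁c, hd₁p, hd₁v, hd₁d⟩ := exists_torus S G hv hv' h he0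
    obtain ⟨d₂, hd₂c, hd₂p, hd₂f, hd₂d⟩ := exists_rot S G ha (u := G.bar e / e) (by
      rw [map_div₀, bar_bar S G]; field_simp)
    refine ⟨e, he0, fun s hs => ?_, d₂ * d₁, mem_of_phi S G (hd₂c.mul hd₁c) ?_ (fun x y => ?_),
      hd₂c.mul hd₁c, ?_⟩
    · rcases eq_or_ne s 1 with rfl | hs1
      · rw [one_smul] at hs
        rw [he] at hs
        exact htd (sub_eq_zero.mpr ((algebraMap F K).injective
          (add_right_cancel (hs.trans heb))))
      refine hwF ((s * σ t - t) / (1 - s)) ?_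
      rw [Algebra.smul_def, heb] at hs
      have h1 : (1 - algebraMap F K s) ≠ 0 := by
        rw [← map_one (algebraMap F K), ← map_sub]
        exact (map_ne_zero _).mpr (sub_ne_zero.mpr hs1.symm)
      rw [map_div₀, map_sub, map_sub, map_mul, map_one, eq_div_iff h1]
      rw [he] at hs
      linear_combination hs
    · have hN : ∀ z : K, z ≠ 0 → Algebra.norm F z ≠ 0 := fun z hz h0 => by
        haveI : Module.Finite F K :=
          Module.finite_of_finrank_pos (by rw [S.hK.finrank_eq]; exact S.hr.pos)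
        exact hz (Algebra.norm_eq_zero_iff.mp h0)
      rw [map_mul, Units.val_mul, hd₁d, hd₂d,
        show LinearMap.det (LinearMap.mulLeft F (G.bar e / e)) = Algebra.norm F (G.bar e / e)
          from rfl, div_eq_mul_inv, map_mul, Algebra.norm_inv]
      field_simp [hN e he0, hN _ hbe]
    · rw [Units.val_mul, ← mulVec_mulVec, ← mulVec_mulVec, hd₂p, hd₁p]
    · rw [Units.val_mul, ← mulVec_mulVec, hd₁v,
        hd₂f _ (by rw [phi_ev S.hK (G.klin a), phi_zero_swap S G hva, mul_zero])]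

/-- The skew maps giving root elements on a line. -/
noncomputable def rootMaps {v : ι → F} (hv : G.phi v v = 0) : AddSubgroup (K →ₗ[F] K) where
  carrier := {ψ | (∀ x y, tr K (G.bar x * ψ y) = -σ (tr K (G.bar y * ψ x))) ∧
    ∃ g ∈ H, ∀ x, (g : Matrix ι ι F) *ᵥ x = x + ev K v (ψ (G.phi v x))}
  zero_mem' := ⟨fun x y => by simp, 1, one_mem H, fun x => by simp⟩
  add_mem' := by
    rintro a b ⟨ha, g, hg, hgx⟩ ⟨hb, g', hg', hgx'⟩
    refine ⟨fun x y => ?_, g * g', mul_mem hg hg', fun x => ?_⟩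
    · rw [LinearMap.add_apply, LinearMap.add_apply, mul_add, mul_add, map_add, map_add, ha, hb,
        map_add σ, neg_add]
    · rw [Units.val_mul, ← mulVec_mulVec, hgx', hgx, map_add (G.phi v), phi_ev S.hK (G.klin v), hv,
        mul_zero, add_zero, LinearMap.add_apply, map_add]
      abel
  neg_mem' := by
    rintro a ⟨ha, g, hg, hgx⟩
    refine ⟨fun x y => ?_, g⁻¹, inv_mem hg, fun x => mulVec_injective g ?_⟩
    · have hneg : ∀ u w : K, tr K (u * -w) = -tr K (u * w) := fun u w => by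
        rw [← map_neg]; congr 1; exact Subtype.ext (mul_neg _ _)
      rw [LinearMap.neg_apply, LinearMap.neg_apply, hneg, hneg, ha, map_neg σ]
    · show (g : Matrix ι ι F) *ᵥ _ = (g : Matrix ι ι F) *ᵥ _
      rw [mulVec_inv_mulVec, hgx, map_add (G.phi v), phi_ev S.hK (G.klin v), hv, mul_zero, add_zero,
        LinearMap.neg_apply, map_neg]
      abel

/-- A group moving the lines over the field contains the transvections on isotropic vectors over
the field. -/
theorem ut_mem_line (hn : (Fintype.card ι = 2 * r ∧ ∃ u, IsSpinner G u) ∨ 4 * r ≤ Fintype.card ι)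
    {v : ι → F} (hv : G.phi v v = 0) (hv0 : v ≠ 0)
    (hn' : ∃ g ∈ H, ∃ (x : ι → F), G.phi x x = 0 ∧ ∃ k : K,
      (g : Matrix ι ι F) *ᵥ ((k : Matrix ι ι F) *ᵥ x) ∉ kline K ((g : Matrix ι ι F) *ᵥ x))
    {s : F} (hs : σ s = -s) (κ₀ : K) : ut f (ev K v κ₀) s ∈ H := by
  letI : Field K := (isField_of S.hK S.one_le).toField
  haveI : Module.Finite F K :=
    Module.finite_of_finrank_pos (by rw [S.hK.finrank_eq]; exact S.hr.pos)
  obtain ⟨g, hg, κ, θ', hκ, hθ0, hgv⟩ := exists_stabilizer S G hn hv hv0 hn'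
  obtain ⟨a, ha⟩ := exists_tr_rep S.hK S.hr
    ({ toFun := fun l => σ (θ' (G.bar l))
       map_add' := fun x y => by rw [map_add, map_add, map_add]
       map_smul' := fun c x => by
        rw [bar_smul S G, map_smul, smul_eq_mul, map_mul, S.hf.involutive, RingHom.id_apply,
          smul_eq_mul] } : K →ₗ[F] F)
  have ha' : ∀ l, tr K (l * a) = σ (θ' (G.bar l)) := ha
  have hθa : ∀ l, θ' l = tr K (l * G.bar a) := fun l => by
    rw [← S.hf.involutive (θ' l), show l = G.bar (G.bar l) from (bar_bar S G l).symm, ← map_mul,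
      tr_bar S G, ha', bar_bar S G]
  have ha0 : a ≠ 0 := fun h0 => hθ0 (LinearMap.ext fun k => by
    rw [hθa, h0, map_zero, mul_zero, map_zero, LinearMap.zero_apply])
  have hz : ∀ z, G.phi v z = G.phi v ((g : Matrix ι ι F) *ᵥ z) +
      tr K (G.bar κ * G.phi v ((g : Matrix ι ι F) *ᵥ z)) • a := fun z => phi_ext S fun l => by
    rw [G.spec, G.adj, ← ev_apply, ← isom_form S hg, hgv, hadd_right S.hf, hsmul_right S.hf,
      mul_add, map_add, mul_smul_comm, map_smul, ha', smul_eq_mul, G.spec, G.spec, ev_apply,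
      ev_apply, G.adj, G.adj, bar_bar S G, mul_comm]
  set M := rootMaps S G hv with hM
  have hmult : ∀ k : K, G.bar k = -k → LinearMap.mulLeft F k ∈ M := fun k hk => by
    obtain ⟨t, ht, -, htx⟩ := inH_transvection S G hv hk
    exact ⟨isSkew_mulLeft (isBar S G) hk, t, ht, htx⟩
  have hmove : ∀ d ∈ H, Comm K d → ∀ e : K, (d : Matrix ι ι F) *ᵥ v = ev K v e → ∀ ψ ∈ M,
      LinearMap.mulLeft F e ∘ₗ ψ ∘ₗ LinearMap.mulLeft F (G.bar e) ∈ M := by
    rintro d hd hdc e hdv ψ ⟨hψs, t, ht, htx⟩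
    refine ⟨isSkew_conj (isBar S G) hψs e, d * t * d⁻¹,
      mul_mem (mul_mem hd ht) (inv_mem hd), fun x => ?_⟩
    obtain ⟨z, rfl⟩ : ∃ z, (d : Matrix ι ι F) *ᵥ z = x := ⟨_, mulVec_inv_mulVec d x⟩
    have hφz : G.phi v z = G.bar e * G.phi v ((d : Matrix ι ι F) *ᵥ z) := by
      rw [← phi_comm S G hd hdc z v, hdv, phi_ev_left S G]
    rw [Units.val_mul, Units.val_mul, ← mulVec_mulVec, ← mulVec_mulVec, inv_mulVec_mulVec, htx,
      mulVec_add, ev_apply v, hdc, hdv, ← ev_mul, hφz, kmul_comm S.hK _ e]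
    rfl
  obtain ⟨v', hv', hvv'⟩ := exists_partner S G hv hv0
  have hconj : ∀ c : K, c ≠ 0 → G.bar c = c → ∀ ψ ∈ M,
      LinearMap.mulLeft F c ∘ₗ ψ ∘ₗ LinearMap.mulLeft F c ∈ M := by
    intro c hc hcb ψ hψ
    obtain ⟨d, hdc, hdp, hdv, hdd⟩ := exists_torus S G hv hv' hvv' hc
    have hd : d ∈ H := mem_of_phi S G hdc (by
      rw [hdd, hcb, mul_inv_cancel₀ (fun h0 => hc (Algebra.norm_eq_zero_iff.mp h0))]) hdp
    have := hmove d hd hdc c hdv ψ hψ
    rwa [hcb] at this
  -- a pair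
  obtain ⟨t₀, htd, hη, -⟩ := exists_eta S G
  set η := algebraMap F K (t₀ - σ t₀) with hηdef
  have hη0 : η ≠ 0 := (map_ne_zero _).mpr htd
  obtain ⟨k, hk, hkF⟩ : ∃ k : K, G.bar k = -k ∧ ∀ s : F, k * a ≠ s • κ := by
    by_contra hc
    push Not at hc
    obtain ⟨w, hwb, hwF⟩ := exists_fixed_notMem S G
    obtain ⟨s1, h1⟩ := hc η hη
    obtain ⟨s2, h2⟩ := hc (η * w) (by rw [map_mul, hη, hwb, neg_mul])
    have hs1 : s1 ≠ 0 := fun h0 => mul_ne_zero hη0 ha0 (by rw [h1, h0, zero_smul])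
    refine hwF (s2 / s1) (mul_left_cancel₀ (mul_ne_zero hη0 ha0) ?_)
    rw [mul_right_comm, h2, h1, Algebra.smul_def, Algebra.smul_def, map_div₀]
    field_simp [(map_ne_zero (algebraMap F K)).mpr hs1]
  have hskew : σ (θ' (k * a)) = -θ' (k * a) := by
    rw [hθa, ← tr_bar S G, map_mul G.bar, map_mul G.bar, bar_bar S G, hk, ← map_neg]
    congr 1
    ring
  obtain ⟨τ, hτ⟩ := exists_skew_trace (isBar S G)
  set c' := θ' (k * a) * τ with hc'
  have hcc : c' - σ c' = θ' (k * a) := by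
    rw [hc', map_mul σ, hskew]; linear_combination θ' (k * a) * hτ
  set b := k * a + c' • κ with hb
  have hbF : ∀ s : F, b ≠ s • κ := fun s hs => hkF (s - c') (by
    rw [sub_smul, ← hs, hb, add_sub_cancel_right])
  have hpair : pairMap G.bar κ b ∈ M := by
    suffices h : LinearMap.mulLeft F k + pairMap G.bar κ b ∈ M by
      have := sub_mem h (hmult k hk)
      rwa [add_sub_cancel_left] at this
    refine ⟨fun x y => ?_, ?_⟩
    · have e1 := isSkew_mulLeft (isBar S G) hk x y
      have e2 := isSkew_pairMap (isBar S G) κ b x y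
      rw [LinearMap.add_apply, LinearMap.add_apply, mul_add, mul_add, map_add, map_add,
        map_add σ, neg_add]
      exact congrArg₂ (· + ·) e1 e2
    obtain ⟨t, ht, -, htx⟩ := inH_transvection S G hv hk
    refine ⟨g * t * g⁻¹, mul_mem (mul_mem hg ht) (inv_mem hg), fun x => ?_⟩
    obtain ⟨z, rfl⟩ : ∃ z, (g : Matrix ι ι F) *ᵥ z = x := ⟨_, mulVec_inv_mulVec g x⟩
    rw [Units.val_mul, Units.val_mul, ← mulVec_mulVec, ← mulVec_mulVec, inv_mulVec_mulVec, htx,
      mulVec_add, hgv, ← map_smul, ← map_add, hz]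
    set y := G.phi v ((g : Matrix ι ι F) *ᵥ z) with hy
    congr 2
    have hθk : θ' (k * y) = -Algebra.trace F K (G.bar (k * a) * y) := by
      rw [hθa, show Algebra.trace F K (G.bar (k * a) * y) = tr K (G.bar (k * a) * y) from rfl,
        ← map_neg, map_mul G.bar, hk]
      congr 1
      ring
    have hR : tr K (G.bar κ * y) = Algebra.trace F K (G.bar κ * y) := rfl
    simp only [hR, LinearMap.add_apply, LinearMap.mulLeft_apply, pairMap, LinearMap.sub_apply,
      rk1_apply, hb, map_add G.bar, bar_smul S G, mul_add, add_mul, map_add, mul_smul_comm,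
      smul_mul_assoc, map_smul, hθk, smul_eq_mul, ← hcc]
    match_scalars <;> ring
  obtain ⟨e, he0, hes, d, hd, hdc, hdv⟩ := exists_scale S G hv hv' hvv' hn
  obtain ⟨-, t, ht, htx⟩ := rk1_mem (isBar S G) (S.hK.finrank_eq.symm ▸ S.hr)
    (by rw [S.hK.finrank_eq]; exact S.hro) (M := M) (fun ψ hψ => hψ.1) hmult hconj
    ⟨e, he0, hes, hmove d hd hdc e hdv⟩ hκ hbF hpair hs κ₀
  rw [show ut f (ev K v κ₀) s = t from gl_ext fun x => ?_]
  · exact ht
  rw [ut_mulVec S.hf (by rw [← phi_one S G, phi_line S G hv, map_zero]), htx,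
    LinearMap.smul_apply, rk1_apply, map_smul, map_smul, smul_smul, ev_apply v κ₀,
    show f x ((κ₀ : Matrix ι ι F) *ᵥ v) = tr K (G.bar κ₀ * G.phi v x) by
      rw [G.spec, G.adj, bar_bar S G]]
  rfl

theorem ut_conj {g : GL ι F} (hg : g ∈ H) {u : ι → F} (hu : f u u = 0) (s : F) :
    g * ut f u s * g⁻¹ = ut f ((g : Matrix ι ι F) *ᵥ u) s := gl_ext fun x => by
  obtain ⟨z, rfl⟩ : ∃ z, (g : Matrix ι ι F) *ᵥ z = x := ⟨_, mulVec_inv_mulVec g x⟩
  rw [Units.val_mul, Units.val_mul, ← mulVec_mulVec, ← mulVec_mulVec, inv_mulVec_mulVec,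
    ut_mulVec S.hf hu, ut_mulVec S.hf (by rw [isom_form S hg]; exact hu), isom_form S hg,
    mulVec_add, mulVec_smul]

/-- Transvections on all vectors isotropic for the small form. -/
theorem ut_mem (hn : (Fintype.card ι = 2 * r ∧ ∃ u, IsSpinner G u) ∨ 4 * r ≤ Fintype.card ι)
    {v : ι → F} (hv : G.phi v v = 0) (hv0 : v ≠ 0)
    (hn' : ∃ g ∈ H, ∃ (x : ι → F), G.phi x x = 0 ∧ ∃ k : K,
      (g : Matrix ι ι F) *ᵥ ((k : Matrix ι ι F) *ᵥ x) ∉ kline K ((g : Matrix ι ι F) *ᵥ x))
    {u : ι → F} (hu : f u u = 0) {s : F} (hs : σ s = -s) : ut f u s ∈ H := by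
  letI : Field K := (isField_of S.hK S.one_le).toField
  have hiso : ∀ w, G.phi w w = 0 → f w w = 0 := fun w hw => by
    rw [← phi_one S G, hw, map_zero]
  have step1 : ∀ {s : F}, σ s = -s → ∀ w, G.phi w w = 0 → ut f w s ∈ H := by
    intro s hs w hw
    rcases eq_or_ne w 0 with rfl | hw0
    · rw [show ut f (0 : ι → F) s = 1 from gl_ext fun x => by
        rw [ut_mulVec S.hf (hiso 0 (by rw [map_zero])), smul_zero, add_zero, Units.val_one,
          one_mulVec]]
      exact one_mem H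
    obtain ⟨d, hd, hdc, k, hk, hdv⟩ := exists_move S G hv hv0 hw hw0
    have hdw : (d : Matrix ι ι F) *ᵥ ev K v k⁻¹ = w := by
      rw [ev_apply, hdc, hdv, ← ev_mul, inv_mul_cancel₀ hk, ev_one]
    rw [← hdw, ← ut_conj S hd (hiso _ (phi_line S G hv _ _))]
    exact mul_mem (mul_mem hd (ut_mem_line S G hn hv hv0 hn' hs _)) (inv_mem hd)
  by_cases hn0 : G.phi u u = 0
  · exact step1 hs u hn0
  have hu0 : u ≠ 0 := fun h => hn0 (by rw [h, map_zero])
  -- a vector isotropic over the field with a suitable product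
  set n := G.phi u u with hndef
  obtain ⟨t₀, ht₀⟩ := exists_skew_trace (isBar S G)
  obtain ⟨k', hk', hk'0⟩ : ∃ k : K, G.bar k = -k ∧ tr K k ≠ 0 := by
    by_contra hc
    push Not at hc
    exact one_ne_zero (tr_sep S.hK S.hr (a := (1 : K)) fun k => by
      rw [mul_one]; exact linear_ext_skew S G (T := tr K) (T' := 0) hc k)
  obtain ⟨w, hw, hwu⟩ : ∃ w, G.phi w w = 0 ∧ G.phi w u ≠ 0 := by
    obtain ⟨p, hp, hvp⟩ := exists_partner S G hv hv0
    by_contra hc
    push Not at hc
    refine hu0 (phi_eq_zero S G fun x => ?_)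
    have h' : G.phi p v = 1 := by rw [phi_swap S G v p, hvp, map_one]
    obtain ⟨x', hx'⟩ : ∃ x', x' = x - ev K v (G.phi p x) - ev K p (G.phi v x) := ⟨_, rfl⟩
    have e1 : G.phi v x' = 0 := by simp [hx', phi_ev S.hK (G.klin v), hv, hvp, -ev_apply]
    have e2 : G.phi p x' = 0 := by simp [hx', phi_ev S.hK (G.klin p), hp, h', -ev_apply]
    obtain ⟨c, hc'⟩ := exists_trace_bar S G (show G.bar (-G.phi x' x') = -G.phi x' x' by
      rw [map_neg, self_fixed S G])
    have e3 := hc (p + x' + ev K v c) (by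
      simp only [phi_add S G, map_add, phi_ev_left S G, phi_ev S.hK (G.klin _), hv, hp, hvp, h',
        e1, e2, phi_zero_swap S G e1, phi_zero_swap S G e2]
      linear_combination hc')
    rw [phi_add S G, phi_add S G, phi_ev_left S G, hc p hp, hc v hv, mul_zero, zero_add,
      add_zero] at e3
    rw [show x = x' + ev K v (G.phi p x) + ev K p (G.phi v x) by rw [hx']; abel, map_add, map_add,
      phi_ev S.hK (G.klin u), phi_ev S.hK (G.klin u), phi_zero_swap S G (hc v hv),
      phi_zero_swap S G (hc p hp), phi_zero_swap S G e3, mul_zero, mul_zero, add_zero, add_zero]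
  set μ := (algebraMap F K t₀ * n + k') / G.phi u w with hμ
  have huw : G.phi u w ≠ 0 := fun h => hwu (phi_zero_swap S G h)
  obtain ⟨a, ha⟩ : ∃ a, a = ev K w μ := ⟨_, rfl⟩
  have haa : G.phi a a = 0 := ha ▸ phi_line S G hw μ μ
  have hua : G.phi u a = algebraMap F K t₀ * n + k' := by
    rw [ha, phi_ev S.hK (G.klin u), hμ, div_mul_cancel₀ _ huw]
  have hau : G.phi a u = G.bar (algebraMap F K t₀ * n + k') := by rw [phi_swap S G u a, hua]
  obtain ⟨b, hbdef⟩ : ∃ b, b = u - a := ⟨_, rfl⟩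
  have hbb : G.phi b b = 0 := by
    rw [hbdef, phi_sub S G, map_sub, map_sub, ← hndef, hua, hau, haa, map_add, map_mul,
      bar_algebraMap S G, hk', show G.bar n = n from self_fixed S G u]
    have e : algebraMap F K t₀ + algebraMap F K (σ t₀) = 1 := by rw [← map_add, ht₀, map_one]
    linear_combination -n * e
  have hfa : f a u = tr K k' := by
    rw [← phi_one S G, hua, map_add, ← Algebra.smul_def, map_smul,
      show tr K n = f u u from phi_one S G u u, hu, smul_zero, zero_add]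
  set c := f b a with hc
  have hcc : σ c = -c := by
    have h1 := hu
    rw [show u = a + b by rw [hbdef]; abel, S.hf.add_left, hadd_right S.hf, hadd_right S.hf,
      hiso a haa, hiso b hbb, S.hf.herm a b] at h1
    linear_combination h1
  have hc0 : c ≠ 0 := fun h0 => hk'0 (by
    rw [← hfa, show u = a + b by rw [hbdef]; abel, hadd_right S.hf, hiso a haa, S.hf.herm,
      ← hc, h0, map_zero, add_zero])
  have hg : ut f a c⁻¹ ∈ H := step1 (by rw [map_inv₀, hcc, inv_neg]) a haa
  have hmap : (ut f a c⁻¹ : Matrix ι ι F) *ᵥ b = u := by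
    rw [ut_mulVec S.hf (hiso a haa), ← hc, inv_mul_cancel₀ hc0, one_smul, hbdef, sub_add_cancel]
  rw [← hmap, ← ut_conj S hg (hiso b hbb)]
  exact mul_mem (mul_mem hg (step1 hs b hbb)) (inv_mem hg)

/-- Isometries sending isotropic lines to lines normalise the field. -/
theorem mem_normalizer_of_isotropic_lines {v : ι → F} (hv : G.phi v v = 0) (hv0 : v ≠ 0)
    (hl : ∀ g ∈ H, ∀ x, G.phi x x = 0 → ∀ k : K,
      (g : Matrix ι ι F) *ᵥ ((k : Matrix ι ι F) *ᵥ x) ∈ kline K ((g : Matrix ι ι F) *ᵥ x))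
    {g : GL ι F} (hg : g ∈ H) : g ∈ Geo.subalgebraNormalizer K := by
  letI : Field K := (isField_of S.hK S.one_le).toField
  have hisoimg : ∀ g ∈ H, ∀ x, G.phi x x = 0 →
      G.phi ((g : Matrix ι ι F) *ᵥ x) ((g : Matrix ι ι F) *ᵥ x) = 0 := by
    intro g hg x hx
    rcases eq_or_ne x 0 with rfl | hx0
    · rw [mulVec_zero, map_zero]
    refine tr_sep S.hK S.hr fun l => ?_
    have hle : lineImg K g x ≤ kline K ((g : Matrix ι ι F) *ᵥ x) := by
      intro z hz
      obtain ⟨μ, rfl⟩ := mem_lineImg.mp hz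
      exact hl g hg x hx μ
    have heq := Submodule.eq_of_le_of_finrank_eq hle
      (by rw [finrank_lineImg S.hK g hx0, finrank_kline S.hK (mulVec_ne_zero g hx0)])
    obtain ⟨μ, hμ⟩ := mem_lineImg.mp (show ev K ((g : Matrix ι ι F) *ᵥ x) l ∈ lineImg K g x from
      heq.symm ▸ ⟨l, rfl⟩)
    rw [G.spec, ← ev_apply, ← hμ, isom_form S hg, ev_apply, ← G.spec, hx, mul_zero, map_zero]
  have key : ∀ g ∈ H, ∀ k ∈ K,
      (g : Matrix ι ι F) * k * ((g⁻¹ : GL ι F) : Matrix ι ι F) ∈ K := by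
    intro g hg k hk
    set C := (g : Matrix ι ι F) * k * ((g⁻¹ : GL ι F) : Matrix ι ι F) with hC
    have hCy : ∀ y, G.phi y y = 0 → C *ᵥ y ∈ kline K y := by
      intro y hy
      rw [hC, ← mulVec_mulVec, ← mulVec_mulVec]
      have := hl g hg _ (hisoimg g⁻¹ (inv_mem hg) y hy) ⟨k, hk⟩
      rwa [mulVec_inv_mulVec] at this
    let γ : (ι → F) → K →ₗ[F] K := fun p => G.phi p ∘ₗ C.mulVecLin ∘ₗ ev K v
    obtain ⟨p, hp, hvp⟩ := exists_partner S G hv hv0
    have hpv : G.phi p v = 1 := by rw [phi_swap S G v p, hvp, map_one]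
    set c0 := γ p 1 with hc0
    have pair : ∀ p, G.phi p p = 0 → G.phi v p = 1 →
        C *ᵥ p = ev K p (γ p 1) ∧ C *ᵥ v = ev K v (γ p 1) ∧
          (∀ μ, C *ᵥ ev K v μ = ev K v (μ * γ p 1)) ∧
          ∀ μ, C *ᵥ ev K p μ = ev K p (μ * γ p 1) := by
      intro p hp hvp
      have hpv : G.phi p v = 1 := by rw [phi_swap S G v p, hvp, map_one]
      have hline : ∀ (q : ι → F), G.phi q q = 0 → ∀ μ, ∃ ν, C *ᵥ ev K q μ = ev K q ν := by
        intro q hq μ
        obtain ⟨l, hl'⟩ := hCy (ev K q μ) (phi_line S G hq μ μ)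
        exact ⟨l * μ, by rw [← hl', ev_mul]; rfl⟩
      let γ1 : K →ₗ[F] K := G.phi p ∘ₗ C.mulVecLin ∘ₗ ev K v
      let γ2 : K →ₗ[F] K := G.phi v ∘ₗ C.mulVecLin ∘ₗ ev K p
      have h1 : ∀ μ, C *ᵥ ev K v μ = ev K v (γ1 μ) := fun μ => by
        obtain ⟨ν, hν⟩ := hline v hv μ
        have : γ1 μ = ν := by
          show G.phi p (C *ᵥ ev K v μ) = ν
          rw [hν, phi_ev S.hK (G.klin p), hpv, mul_one]
        rw [hν, this]
      have h2 : ∀ μ, C *ᵥ ev K p μ = ev K p (γ2 μ) := fun μ => by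
        obtain ⟨ν, hν⟩ := hline p hp μ
        have : γ2 μ = ν := by
          show G.phi v (C *ᵥ ev K p μ) = ν
          rw [hν, phi_ev S.hK (G.klin v), hvp, mul_one]
        rw [hν, this]
      have h3 : ∀ k, G.bar k = -k → ∀ μ, γ2 (k * μ) = k * γ1 μ := by
        intro k hk μ
        set w := ev K v μ + ev K p (k * μ) with hw
        have hww : G.phi w w = 0 := by
          simp only [hw, phi_add S G, map_add, phi_ev_left S G, phi_ev S.hK (G.klin _), hv, hp,
            hvp, hpv, map_mul, hk]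
          ring
        obtain ⟨l, hl'⟩ := hCy w hww
        have hCw : C *ᵥ w = ev K v (γ1 μ) + ev K p (γ2 (k * μ)) := by
          rw [hw, mulVec_add, h1, h2]
        have e1 := congrArg (G.phi p) (hl'.trans hCw)
        have e2 := congrArg (G.phi v) (hl'.trans hCw)
        simp only [hw, map_add, phi_ev S.hK (G.klin _), hv, hp, hvp, hpv, mul_zero, mul_one,
          add_zero, zero_add] at e1 e2
        rw [← e1, ← e2]
        ring
      have h4 : ∀ μ k, γ2 (k * μ) = k * γ1 μ := fun μ =>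
        linear_ext_skew S G (T := γ2 ∘ₗ LinearMap.mulRight F μ)
          (T' := LinearMap.mulRight F (γ1 μ)) (fun k hk => h3 k hk μ)
      have h5 : ∀ μ, γ2 μ = γ1 μ := fun μ => by simpa using h4 μ 1
      have h6 : ∀ μ, γ1 μ = μ * γ1 1 := fun μ => by
        rw [← h5 μ]
        simpa using h4 1 μ
      refine ⟨?_, ?_, fun μ => by rw [h1, h6], fun μ => by rw [h2, h5, h6]⟩
      · rw [← ev_one (K := K) p, h2, h5, ev_one]
      · rw [← ev_one (K := K) v, h1, ev_one]
    obtain ⟨hCp, hCv, hCvμ, hCpμ⟩ := pair p hp hvp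
    have hpts : ∀ q, G.phi q q = 0 → G.phi v q = 1 →
        C *ᵥ q = (c0 : Matrix ι ι F) *ᵥ q := by
      intro q hq hvq
      obtain ⟨e1, e2, -⟩ := pair q hq hvq
      rw [e1, show γ q 1 = c0 from ev_injective S.hK hv0 (e2.symm.trans hCv)]
      rfl
    have hall : ∀ x, C *ᵥ x = (c0 : Matrix ι ι F) *ᵥ x := by
      intro x
      obtain ⟨x', hx'⟩ : ∃ x', x' = x - ev K v (G.phi p x) - ev K p (G.phi v x) := ⟨_, rfl⟩
      have e1 : G.phi v x' = 0 := by simp [hx', phi_ev S.hK (G.klin v), hv, hvp, -ev_apply]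
      have e2 : G.phi p x' = 0 := by simp [hx', phi_ev S.hK (G.klin p), hp, hpv, -ev_apply]
      obtain ⟨s, hs⟩ := exists_trace_bar S G (show G.bar (-G.phi x' x') = -G.phi x' x' by
        rw [map_neg, self_fixed S G])
      have hline : ∀ μ, C *ᵥ ev K v μ = (c0 : Matrix ι ι F) *ᵥ ev K v μ := fun μ => by
        rw [hCvμ, mul_comm, ev_mul]
      have hq := hpts (p + x' + ev K v s) (by
          simp only [phi_add S G, map_add, phi_ev_left S G, phi_ev S.hK (G.klin _), hv, hp, hvp,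
            hpv, e1, e2, phi_zero_swap S G e1, phi_zero_swap S G e2]
          linear_combination hs)
        (by simp [phi_ev S.hK (G.klin v), hv, hvp, e1, -ev_apply])
      have hx'' : C *ᵥ x' = (c0 : Matrix ι ι F) *ᵥ x' := by
        rw [mulVec_add, mulVec_add, mulVec_add, mulVec_add, hline, hpts p hp hvp] at hq
        exact add_left_cancel (add_right_cancel hq)
      have hp' : C *ᵥ ev K p (G.phi v x) = (c0 : Matrix ι ι F) *ᵥ ev K p (G.phi v x) := by
        rw [hCpμ, mul_comm, ev_mul]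
      rw [show x = x' + ev K v (G.phi p x) + ev K p (G.phi v x) by rw [hx']; abel]
      simp only [mulVec_add]
      rw [hline, hp', hx'']
    rw [show C = (c0 : Matrix ι ι F) from Matrix.ext_of_mulVec_single fun i => hall _]
    exact c0.2
  intro k
  refine ⟨key g hg k, fun h => ?_⟩
  have := key g⁻¹ (inv_mem hg) _ h
  rwa [inv_inv, ← mul_assoc, ← mul_assoc, Units.inv_mul, one_mul, mul_assoc, Units.inv_mul,
    mul_one] at this

end Cfsg.Agent.ExtFieldMax.Herm
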