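import Cfsg.Agent.ExtFieldMax.Herm.Main

/-!
Maximality of the normalisers of adjoint closed fields in `SU` for the standard form (helper71).
-/

set_option autoImplicit false

namespace Cfsg.Agent.ExtFieldMax.Herm

open Matrix Cfsg.Agent.MaxSub

theorem not_dvd_of_odd_prime {q r : ℕ} (hq : 2 ≤ q) (hr : r.Prime) (hro : Odd r)
    (h23 : q = 2 → r ≠ 3) : ¬ (q ^ r + 1 ∣ 2 * (q ^ 2 - 1) ^ 2) := by
  intro h
  have hr3 : 3 ≤ r := by
    obtain ⟨j, hj⟩ := hro
    have := hr.two_le
    omega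
  have hpos : 0 < q ^ 2 - 1 := by
    have : 4 ≤ q ^ 2 := by nlinarith
    omega
  have hle := Nat.le_of_dvd (by positivity) h
  rcases Nat.lt_or_ge r 5 with h5 | h5
  · obtain rfl : r = 3 := by
      obtain ⟨j, hj⟩ := hro
      omega
    have hq2 : q ≠ 2 := fun e => h23 e rfl
    obtain ⟨p, rfl⟩ : ∃ p, q = p + 3 := ⟨q - 3, by omega⟩
    have hM : (p + 3) ^ 3 + 1 = (p + 4) * (p * p + 5 * p + 7) := by ring
    have hN : 2 * ((p + 3) ^ 2 - 1) ^ 2 = (p + 4) * (2 * (p + 2) ^ 2 * (p + 4)) := by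
      rw [show (p + 3) ^ 2 - 1 = (p + 4) * (p + 2) by
        rw [Nat.sub_eq_iff_eq_add (Nat.one_le_pow _ _ (by omega))]; ring]
      ring
    rw [hM, hN] at h
    have h1 := Nat.dvd_of_mul_dvd_mul_left (by omega : 0 < p + 4) h
    -- reduce modulo the quadratic factor
    have h2 : p * p + 5 * p + 7 ∣ 4 * p + 10 := by
      have e : 2 * (p + 2) ^ 2 * (p + 4) + (4 * p + 10) = (p * p + 5 * p + 7) * (2 * p + 6) := by
        ring
      exact (Nat.dvd_add_right h1).mp (e ▸ dvd_mul_right _ _)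
    have h3 := Nat.le_of_dvd (by omega) h2
    have hp : p ≤ 1 := by nlinarith
    interval_cases p <;> norm_num at h2
  · obtain ⟨j, rfl⟩ : ∃ j, r = j + 5 := ⟨r - 5, by omega⟩
    have h1 : q ^ 5 ≤ q ^ (j + 5) := Nat.pow_le_pow_right (by omega) (by omega)
    have h2 : (q ^ 2 - 1) ^ 2 ≤ (q ^ 2) ^ 2 := Nat.pow_le_pow_left (Nat.sub_le _ _) 2
    have h3 : q ^ 5 = q * (q ^ 2) ^ 2 := by ring
    nlinarith

variable {F : Type*} [Field F] [Fintype F] {n q r : ℕ}
variable {K : Subalgebra F (Matrix (Fin n) (Fin n) F)}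

theorem exists_spinner (hF : Fintype.card F = q ^ 2) {σ : F ≃+* F}
    {H : Subgroup (GL (Fin n) F)} (S : Setting σ (hermForm n F q) K r H)
    (G : Data (hermForm n F q) K) (h23 : q = 2 → r ≠ 3) : ∃ u, IsSpinner G u := by
  classical
  letI : Field K := (isField_of S.hK S.one_le).toField
  haveI : Module.Finite F K :=
    Module.finite_of_finrank_pos (by rw [S.hK.finrank_eq]; exact S.hr.pos)
  haveI : Finite K := Module.finite_of_finite F
  letI : Fintype K := Fintype.ofFinite K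
  let K₀ : Subfield K :=
    { carrier := {x | G.bar x = x}
      mul_mem' := fun {a b} ha hb => by
        show G.bar (a * b) = a * b
        rw [map_mul, show G.bar a = a from ha, show G.bar b = b from hb]
      one_mem' := map_one _
      add_mem' := fun {a b} ha hb => by
        show G.bar (a + b) = a + b
        rw [map_add, show G.bar a = a from ha, show G.bar b = b from hb]
      zero_mem' := map_zero _
      neg_mem' := fun {a} ha => by
        show G.bar (-a) = -a
        rw [map_neg, show G.bar a = a from ha]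
      inv_mem' := fun a ha => by
        show G.bar a⁻¹ = a⁻¹
        rw [map_inv₀, show G.bar a = a from ha] }
  obtain ⟨t, htd, -, hTb⟩ := exists_eta S G
  set T := algebraMap F K t with hT
  have hsq : Nat.card K₀ * Nat.card K₀ = Nat.card K := by
    rw [← Nat.card_prod]
    refine Nat.card_eq_of_bijective (fun ab : K₀ × K₀ => (ab.1 : K) + T * ab.2) ⟨?_, fun x => ?_⟩
    · rintro ⟨⟨a, ha⟩, ⟨b, hb⟩⟩ ⟨⟨a', ha'⟩, ⟨b', hb'⟩⟩ h
      have h1 : a + T * b = a' + T * b' := h
      have h2 := congrArg G.bar h1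
      rw [map_add, map_add, map_mul, map_mul, show G.bar a = a from ha, show G.bar b = b from hb,
        show G.bar a' = a' from ha', show G.bar b' = b' from hb'] at h2
      have hbb : b = b' := by
        have : (T - G.bar T) * (b - b') = 0 := by linear_combination h1 - h2
        exact sub_eq_zero.mp ((mul_eq_zero.mp this).resolve_left (sub_ne_zero.mpr hTb.symm))
      subst hbb
      obtain rfl : a = a' := add_right_cancel h1
      rfl
    · obtain ⟨a, b, ha, hb, rfl⟩ := exists_fixed_pair G.bar (bar_bar S G) hTb x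
      exact ⟨(⟨a, ha⟩, ⟨b, hb⟩), rfl⟩
  have hq2 : 2 ≤ q := by
    have := Fintype.one_lt_card (α := F)
    rw [hF] at this
    rcases q with _ | _ | q <;> simp_all
  have hm : Nat.card K₀ = q ^ r := by
    have h1 : Nat.card K = (q ^ r) * (q ^ r) := by
      rw [Module.natCard_eq_pow_finrank (K := F) (V := K), S.hK.finrank_eq,
        Nat.card_eq_fintype_card, hF]
      ring
    exact Nat.mul_self_inj.mp (hsq.trans h1)
  set N := 2 * (q ^ 2 - 1) ^ 2 with hN
  obtain ⟨z, hz0, hzN⟩ : ∃ z : K, z ≠ 0 ∧ (z / G.bar z) ^ N ≠ 1 := by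
    by_contra hc
    push Not at hc
    obtain ⟨g, hg⟩ := IsCyclic.exists_generator (α := Kˣ)
    have hbg : G.bar (g : K) ≠ 0 := (map_ne_zero _).mpr g.ne_zero
    have hfix : G.bar ((g : K) ^ N) = (g : K) ^ N := by
      have := hc g g.ne_zero
      rw [div_pow, div_eq_one_iff_eq (pow_ne_zero _ hbg)] at this
      rw [map_pow, ← this]
    letI : Fintype K₀ := Fintype.ofFinite K₀
    have h1 : (⟨(g : K) ^ N, hfix⟩ : K₀) ^ (Fintype.card K₀ - 1) = 1 :=
      FiniteField.pow_card_sub_one_eq_one _ fun h0 =>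
        pow_ne_zero N g.ne_zero (congrArg Subtype.val h0)
    have h2 : g ^ (N * (q ^ r - 1)) = 1 := Units.ext (by
      rw [← hm, Nat.card_eq_fintype_card, Units.val_pow_eq_pow_val, pow_mul]
      exact congrArg Subtype.val h1)
    have h3 : orderOf g = q ^ r * q ^ r - 1 := by
      rw [orderOf_eq_card_of_forall_mem_zpowers hg, Nat.card_units, ← hsq, hm]
    have h4 := h3 ▸ orderOf_dvd_of_pow_eq_one h2
    have h5 : 2 ≤ q ^ r := le_trans hq2 (Nat.le_self_pow S.hr.ne_zero q)
    obtain ⟨Q, hQ⟩ : ∃ Q, q ^ r = Q + 2 := ⟨q ^ r - 2, by omega⟩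
    refine not_dvd_of_odd_prime hq2 S.hr S.hro h23 ?_
    rw [hQ] at h4 ⊢
    have e : (Q + 2) * (Q + 2) - 1 = (Q + 1) * (Q + 2 + 1) := by
      rw [Nat.sub_eq_iff_eq_add (by nlinarith)]; ring
    rw [e, show Q + 2 - 1 = Q + 1 from by omega, mul_comm N] at h4
    exact Nat.dvd_of_mul_dvd_mul_left (by omega) h4
  set w := z / G.bar z with hw
  have hbz : G.bar z ≠ 0 := (map_ne_zero _).mpr hz0
  have hw1 : G.bar w * w = 1 := by
    rw [hw, map_div₀, bar_bar S G]; field_simp
  have hw0 : w ≠ 0 := div_ne_zero hz0 hbz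
  refine ⟨w ^ (q ^ 2 - 1), ?_, ?_, fun s hs => ?_⟩
  · rw [map_pow, ← mul_pow, hw1, one_pow]
  · show Algebra.norm F (w ^ (q ^ 2 - 1)) = 1
    rw [map_pow, ← hF]
    exact FiniteField.pow_card_sub_one_eq_one _ fun h0 => hw0 (Algebra.norm_eq_zero_iff.mp h0)
  · set u := w ^ (q ^ 2 - 1) with hu
    have hu1 : G.bar u * u = 1 := by rw [hu, map_pow, ← mul_pow, hw1, one_pow]
    have hu2 : u * u = algebraMap F K s := by
      nth_rewrite 1 [hs]
      rw [smul_mul_assoc, hu1, Algebra.algebraMap_eq_smul_one]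
    have hs0 : s ≠ 0 := fun h0 => by
      rw [h0, map_zero] at hu2
      exact pow_ne_zero _ hw0 (mul_self_eq_zero.mp hu2)
    refine hzN ?_
    have e : w ^ N = (u * u) ^ (q ^ 2 - 1) := by
      rw [hu, ← pow_add, ← pow_mul, hN]
      congr 1
      ring
    rw [e, hu2, ← map_pow, ← hF, FiniteField.pow_card_sub_one_eq_one _ hs0, map_one]

/-- Normalisers of adjoint closed fields of odd prime degree are maximal in `SU`. -/
theorem isMaximalIn_su (hF : Fintype.card F = q ^ 2) (hr : r.Prime) (hro : Odd r)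
    (hn : (n = 2 * r ∧ (q = 2 → r ≠ 3)) ∨ 4 * r ≤ n)
    (hK : Geo.IsFieldSubalgebra r K) (hac : Geo.IsAdjointClosedFor (hermForm n F q) K) :
    Geo.IsMaximalIn (GU n F q ⊓ Geo.specialLinear (Fin n) F)
      (Geo.subalgebraNormalizer K ⊓ (GU n F q ⊓ Geo.specialLinear (Fin n) F)) := by
  classical
  obtain ⟨σ, hσ, hf⟩ := HermStab.exists_setup (n := n) hF
  obtain ⟨G⟩ := exists_data hf hK hr hac
  letI : Field K := (isField_of hK hr.one_lt.le).toField
  have hGU : ∀ g : GL (Fin n) F, g ∈ GU n F q ↔ g ∈ isom (hermForm n F q) := fun g => Iff.rfl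
  have hsetting : ∀ M : Subgroup (GL (Fin n) F),
      Geo.subalgebraNormalizer K ⊓ (GU n F q ⊓ Geo.specialLinear (Fin n) F) ≤ M →
      M ≤ GU n F q ⊓ Geo.specialLinear (Fin n) F →
      Setting σ (hermForm n F q) K r M := fun M hle hMG =>
    ⟨hK, hr, hro, hf,
      fun g hg hdet hc => hle ⟨mem_normalizer_of_comm hc, (hGU g).mpr hg, hdet⟩,
      fun g hg => (hGU g).mp (hMG hg).1⟩
  have S₀ := hsetting _ inf_le_right le_rfl
  have hn' : (Fintype.card (Fin n) = 2 * r ∧ ∃ u, IsSpinner G u) ∨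
      4 * r ≤ Fintype.card (Fin n) := by
    rw [Fintype.card_fin]
    exact hn.imp_left fun h => ⟨h.1, exists_spinner hF S₀ G h.2⟩
  have hr2 := hr.two_le
  obtain ⟨v, -, hv0, hv⟩ := exists_iso S₀ G (P := ⊤) (fun k x _ => Submodule.mem_top) (by
    rw [finrank_top, Module.finrank_fintype_fun_eq_card, Fintype.card_fin]
    omega)
  have hvv : hermForm n F q v v = 0 := by rw [← phi_one S₀ G, hv, map_zero]
  refine isMaximalIn_of inf_le_right ?_ fun M hle hMG g hg hgH => ?_
  · -- a transvection outside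
    obtain ⟨s, hs0, hs⟩ := exists_skew hf
    refine ⟨ut (hermForm n F q) v s,
      ⟨(hGU _).mpr (ut_mem_isom hf hvv hs), tv_mem_specialLinear _ _⟩, fun hmem => ?_⟩
    obtain ⟨x, hx⟩ := (hf.nondegenerate v hv0).1
    obtain ⟨w, -, hwF⟩ := exists_fixed_notMem S₀ G
    obtain ⟨k', hk'⟩ : ∃ k' : K, (k' : Matrix (Fin n) (Fin n) F) =
        (ut (hermForm n F q) v s : Matrix (Fin n) (Fin n) F) * w *
          (((ut (hermForm n F q) v s)⁻¹ : GL (Fin n) F) : Matrix (Fin n) (Fin n) F) :=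
      ⟨⟨_, (hmem.1 (w : Matrix (Fin n) (Fin n) F)).mp w.2⟩, rfl⟩
    have hc : ∀ y, (ut (hermForm n F q) v s : Matrix (Fin n) (Fin n) F) *ᵥ
        ((w : Matrix (Fin n) (Fin n) F) *ᵥ y) = (k' : Matrix (Fin n) (Fin n) F) *ᵥ
          ((ut (hermForm n F q) v s : Matrix (Fin n) (Fin n) F) *ᵥ y) := fun y => by
      rw [hk', ← mulVec_mulVec _ (_ * _), inv_mulVec_mulVec, mulVec_mulVec]
    have hwv : hermForm n F q ((w : Matrix (Fin n) (Fin n) F) *ᵥ v) v = 0 := by
      rw [← G.spec, hv, mul_zero, map_zero]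
    have hkw : k' = w := by
      have h1 := hc v
      rw [ut_mulVec hf hvv, ut_mulVec hf hvv, hwv, hvv, mul_zero, zero_smul, add_zero, add_zero]
        at h1
      exact ev_injective hK hv0 h1.symm
    have h1 := hc x
    rw [hkw, ut_mulVec hf hvv, ut_mulVec hf hvv, mulVec_add, mulVec_smul, add_right_inj] at h1
    refine hwF (hermForm n F q ((w : Matrix (Fin n) (Fin n) F) *ᵥ x) v /
      hermForm n F q x v) (ev_injective hK hv0 ?_)
    rw [ev_apply, ev_apply, smul_one_mem]
    have := congrArg (fun y => (s * hermForm n F q x v)⁻¹ • y) h1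
    simp only [smul_smul] at this
    rw [inv_mul_cancel₀ (mul_ne_zero hs0 hx), one_smul] at this
    rw [← this]
    congr 1
    field_simp
  · have S := hsetting M hle hMG
    have hmove : ∃ g ∈ M, ∃ x, G.phi x x = 0 ∧ ∃ k : K,
        (g : Matrix (Fin n) (Fin n) F) *ᵥ ((k : Matrix (Fin n) (Fin n) F) *ᵥ x) ∉
          kline K ((g : Matrix (Fin n) (Fin n) F) *ᵥ x) := by
      by_contra hc
      push Not at hc
      exact hgH ⟨mem_normalizer_of_isotropic_lines S G hv hv0 hc hg, hMG hg⟩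
    refine LagPair.le_of_T_mem hF (by omega) fun u a hu ha => ?_
    rw [show LagPair.T (hermForm n F q) u a = ut (hermForm n F q) u a from gl_ext fun x => by
      rw [LagPair.T_mulVec (LagPair.isPairForm_herm hF) hu, ut_mulVec hf hu]]
    refine ut_mem S G hn' hv hv0 hmove hu ?_
    have e : Unitary.conjHom hF a = σ a := by rw [hσ]; rfl
    rw [e] at ha
    linear_combination -ha

end Cfsg.Agent.ExtFieldMax.Herm
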